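import Cfsg.Agent.H437.Win.Pair

/-!
# The numerical cores
-/

set_option autoImplicit false

namespace Cfsg.Agent.H437.Win

variable {p q n : ℕ}

/-- positive value, `U = u ^ M + 1` -/
theorem coreU_I {u Q A U K w : ℤ} (hu : 0 < u) (hQ : 0 < Q) (hA : 0 < A) (hU : 0 < U)
    (heq : u * U * (A - (Q + 1) ^ 2) = Q * A * (U - (u + 1) ^ 2)) (hne : u ≠ Q) (hw : 4 ≤ w) (hK : K * A = w * U)
    (H4 : K * u ^ 3 < 4 * U) (H5 : (u + 1) ^ 3 ≤ U) : False := by
  have hK0 : 0 < K := by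
    by_contra hcon
    have h1 : K * A ≤ 0 := mul_nonpos_of_nonpos_of_nonneg (by omega) hA.le
    have h2 : 0 < w * U := mul_pos (by omega) hU
    omega
  have e1 : (u - Q) * (A * U) = u * (Q + 1) ^ 2 * U - Q * (u + 1) ^ 2 * A := by linear_combination heq
  have hAU : 0 < A * U := mul_pos hA hU
  rcases lt_or_gt_of_ne hne with h | h
  · -- `u < Q`
    have h1 : (Q - u) * U < Q * (u + 1) ^ 2 := by
      have h2 : ((Q - u) * U) * A < (Q * (u + 1) ^ 2) * A := by
        have h3 : 0 < u * (Q + 1) ^ 2 * U := by positivity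
        have h4 : ((Q - u) * U) * A = Q * (u + 1) ^ 2 * A - u * (Q + 1) ^ 2 * U := by linear_combination -e1
        rw [h4]
        linarith
      exact lt_of_mul_lt_mul_right h2 hA.le
    have h2 : Q * (u + 1) ^ 2 ≤ (Q - u) * (u + 1) ^ 3 := by
      have h3 : Q ≤ (Q - u) * (u + 1) := by
        have h4 : 0 ≤ (Q - u - 1) * u := mul_nonneg (by omega) hu.le
        linarith
      calc Q * (u + 1) ^ 2 ≤ ((Q - u) * (u + 1)) * (u + 1) ^ 2 := mul_le_mul_of_nonneg_right h3 (by positivity)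
        _ = _ := by ring
    have h3 : (Q - u) * (u + 1) ^ 3 ≤ (Q - u) * U := mul_le_mul_of_nonneg_left H5 (by omega)
    linarith
  · -- `Q < u`
    have h1 : A * U ≤ (u - Q) * (A * U) := by
      have h2 : 0 ≤ (u - Q - 1) * (A * U) := mul_nonneg (by omega) hAU.le
      linarith
    have h2 : A * U < u ^ 3 * U := by
      have h3 : 0 < Q * (u + 1) ^ 2 * A := by positivity
      have h4 : (Q + 1) ^ 2 ≤ u ^ 2 := pow_le_pow_left₀ (by omega) (by omega) 2
      have h5 : u * (Q + 1) ^ 2 * U ≤ u * u ^ 2 * U :=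
        mul_le_mul_of_nonneg_right (mul_le_mul_of_nonneg_left h4 hu.le) hU.le
      have h6 : u * u ^ 2 * U = u ^ 3 * U := by ring
      linarith
    have h3 : A < u ^ 3 := lt_of_mul_lt_mul_right h2 hU.le
    have h4 : K * A < K * u ^ 3 := mul_lt_mul_of_pos_left h3 hK0
    have h5 : 4 * U ≤ w * U := mul_le_mul_of_nonneg_right hw hU.le
    linarith

/-- the other positive value, `U = u ^ M + 1` -/
theorem coreU_P {u q A U : ℤ} (hu : 0 < u) (hq : 2 ≤ q) (hA : 0 < A) (hU : 0 < U)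
    (heq : u * U * (A + (q - 1) * (q + 1) ^ 2) = q * A * (U - (u + 1) ^ 2)) (hAq : 27 * q ^ 4 ≤ A)
    (H5 : 27 * (u + 1) ^ 3 < 26 * U) : False := by
  have e1 : (q - u) * (A * U) = q * (u + 1) ^ 2 * A + u * ((q - 1) * (q + 1) ^ 2) * U := by linear_combination -heq
  have hAU : 0 < A * U := mul_pos hA hU
  have hq1 : 0 < (q - 1) * (q + 1) ^ 2 := mul_pos (by omega) (by positivity)
  have huq : u < q := by
    by_contra hcon
    have h1 : (q - u) * (A * U) ≤ 0 := mul_nonpos_of_nonpos_of_nonneg (by omega) hAU.le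
    have h2 : 0 < q * (u + 1) ^ 2 * A := by positivity
    have h3 : 0 < u * ((q - 1) * (q + 1) ^ 2) * U := by positivity
    omega
  have h1 : 27 * (u * ((q - 1) * (q + 1) ^ 2)) ≤ A := by
    have h2 : u * ((q - 1) * (q + 1) ^ 2) ≤ (q - 1) * ((q - 1) * (q + 1) ^ 2) :=
      mul_le_mul_of_nonneg_right (by omega) hq1.le
    have h3 : (q - 1) * ((q - 1) * (q + 1) ^ 2) ≤ q ^ 4 := by
      have e : (q - 1) * ((q - 1) * (q + 1) ^ 2) = (q ^ 2 - 1) ^ 2 := by ring
      rw [e]
      have h4 : (q ^ 2 - 1) ^ 2 ≤ (q ^ 2) ^ 2 := pow_le_pow_left₀ (by nlinarith) (by omega) 2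
      calc _ ≤ _ := h4
        _ = _ := by ring
    linarith
  have h2 : (27 * (q - u) - 1) * U ≤ 27 * (q * (u + 1) ^ 2) := by
    have h3 : ((27 * (q - u) - 1) * U) * A ≤ (27 * (q * (u + 1) ^ 2)) * A := by
      have h4 : 27 * (u * ((q - 1) * (q + 1) ^ 2)) * U ≤ A * U := mul_le_mul_of_nonneg_right h1 hU.le
      have h5 : ((27 * (q - u) - 1) * U) * A = 27 * (q * (u + 1) ^ 2) * A +
          27 * (u * ((q - 1) * (q + 1) ^ 2)) * U - A * U := by linear_combination 27 * e1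
      linarith
    exact le_of_mul_le_mul_right h3 hA
  have h3 : q * (u + 1) ^ 2 ≤ (q - u) * (u + 1) ^ 3 := by
    have h4 : q ≤ (q - u) * (u + 1) := by
      have h5 : 0 ≤ (q - u - 1) * u := mul_nonneg (by omega) hu.le
      linarith
    calc q * (u + 1) ^ 2 ≤ ((q - u) * (u + 1)) * (u + 1) ^ 2 := mul_le_mul_of_nonneg_right h4 (by positivity)
      _ = _ := by ring
  have h4 : 26 * ((q - u) * U) ≤ (27 * (q - u) - 1) * U := by
    have h5 : 0 ≤ (q - u - 1) * U := mul_nonneg (by omega) hU.le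
    linarith
  have h5 : (q - u) * (27 * (u + 1) ^ 3) < (q - u) * (26 * U) := mul_lt_mul_of_pos_left H5 (by omega)
  linarith

/-- positive value, `U = u ^ M - 1` -/
theorem coreV_I {u Q A U K w : ℤ} (hu : 0 < u) (hQ : 0 < Q) (hA : 0 < A) (hU : 0 < U)
    (heq : u * U * (A - (Q + 1) ^ 2) = Q * A * (U + (u + 1) ^ 2)) (hw : 4 ≤ w) (hK : K * A = w * U)
    (H4 : K * u ^ 3 < 2 * U) (H5 : 2 * ((u - 1) * (u + 1) ^ 2) ≤ U) : False := by
  have hK0 : 0 < K := by
    by_contra hcon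
    have h1 : K * A ≤ 0 := mul_nonpos_of_nonpos_of_nonneg (by omega) hA.le
    have h2 : 0 < w * U := mul_pos (by omega) hU
    omega
  have e1 : (u - Q) * (A * U) = u * (Q + 1) ^ 2 * U + Q * (u + 1) ^ 2 * A := by linear_combination heq
  have hAU : 0 < A * U := mul_pos hA hU
  have h : Q < u := by
    by_contra hcon
    have h1 : (u - Q) * (A * U) ≤ 0 := mul_nonpos_of_nonpos_of_nonneg (by omega) hAU.le
    have h2 : 0 < Q * (u + 1) ^ 2 * A := by positivity
    have h3 : 0 < u * (Q + 1) ^ 2 * U := by positivity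
    omega
  have h1 : A * U ≤ (u - Q) * (A * U) := by
    have h2 : 0 ≤ (u - Q - 1) * (A * U) := mul_nonneg (by omega) hAU.le
    linarith
  have h4 : (Q + 1) ^ 2 ≤ u ^ 2 := pow_le_pow_left₀ (by omega) (by omega) 2
  have h5 : u * (Q + 1) ^ 2 * U ≤ u ^ 3 * U := by
    calc u * (Q + 1) ^ 2 * U ≤ u * u ^ 2 * U :=
          mul_le_mul_of_nonneg_right (mul_le_mul_of_nonneg_left h4 hu.le) hU.le
      _ = _ := by ring
  have h6 : 2 * (Q * (u + 1) ^ 2 * A) ≤ U * A := by
    calc 2 * (Q * (u + 1) ^ 2 * A) ≤ 2 * ((u - 1) * (u + 1) ^ 2 * A) := by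
          have h7 : Q * (u + 1) ^ 2 * A ≤ (u - 1) * (u + 1) ^ 2 * A :=
            mul_le_mul_of_nonneg_right (mul_le_mul_of_nonneg_right (by omega) (by positivity)) hA.le
          linarith
      _ = 2 * ((u - 1) * (u + 1) ^ 2) * A := by ring
      _ ≤ U * A := mul_le_mul_of_nonneg_right H5 hA.le
  have h7 : A * U ≤ (2 * u ^ 3) * U := by
    have : U * A = A * U := mul_comm _ _
    linarith
  have h8 : A ≤ 2 * u ^ 3 := le_of_mul_le_mul_right h7 hU
  have h9 : K * A ≤ K * (2 * u ^ 3) := mul_le_mul_of_nonneg_left h8 hK0.le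
  have h10 : 4 * U ≤ w * U := mul_le_mul_of_nonneg_right hw hU.le
  linarith

/-- the other positive value, `U = u ^ M - 1` -/
theorem coreV_P {u q A U : ℤ} (hu : 0 < u) (hq : 2 ≤ q) (hA : 0 < A) (hU : 0 < U) (hne : u ≠ q)
    (heq : u * U * (A + (q - 1) * (q + 1) ^ 2) = q * A * (U + (u + 1) ^ 2)) (hAq : q ^ 4 < A)
    (H5 : (u - 1) * (u + 1) ^ 2 < U) : False := by
  have e1 : (q - u) * (A * U) = u * ((q - 1) * (q + 1) ^ 2) * U - q * (u + 1) ^ 2 * A := by linear_combination -heq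
  have hAU : 0 < A * U := mul_pos hA hU
  have hq1 : 0 < (q - 1) * (q + 1) ^ 2 := mul_pos (by omega) (by positivity)
  rcases lt_or_gt_of_ne hne with h | h
  · have h1 : A * U ≤ (q - u) * (A * U) := by
      have h2 : 0 ≤ (q - u - 1) * (A * U) := mul_nonneg (by omega) hAU.le
      linarith
    have h2 : u * ((q - 1) * (q + 1) ^ 2) ≤ (q - 1) * ((q - 1) * (q + 1) ^ 2) :=
      mul_le_mul_of_nonneg_right (by omega) hq1.le
    have h3 : (q - 1) * ((q - 1) * (q + 1) ^ 2) ≤ q ^ 4 := by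
      have e : (q - 1) * ((q - 1) * (q + 1) ^ 2) = (q ^ 2 - 1) ^ 2 := by ring
      rw [e]
      have h4 : (q ^ 2 - 1) ^ 2 ≤ (q ^ 2) ^ 2 := pow_le_pow_left₀ (by nlinarith) (by omega) 2
      calc _ ≤ _ := h4
        _ = _ := by ring
    have h4 : u * ((q - 1) * (q + 1) ^ 2) * U ≤ q ^ 4 * U := mul_le_mul_of_nonneg_right (h2.trans h3) hU.le
    have h5 : 0 < q * (u + 1) ^ 2 * A := by positivity
    have h6 : A * U < q ^ 4 * U := by linarith
    have h7 : A < q ^ 4 := lt_of_mul_lt_mul_right h6 hU.le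
    omega
  · have h1 : A * U ≤ (u - q) * (A * U) := by
      have h2 : 0 ≤ (u - q - 1) * (A * U) := mul_nonneg (by omega) hAU.le
      linarith
    have h2 : 0 < u * ((q - 1) * (q + 1) ^ 2) * U := by positivity
    have h3 : U * A < ((u - 1) * (u + 1) ^ 2) * A := by
      have h4 : q * (u + 1) ^ 2 * A ≤ (u - 1) * (u + 1) ^ 2 * A :=
        mul_le_mul_of_nonneg_right (mul_le_mul_of_nonneg_right (by omega) (by positivity)) hA.le
      have h5 : U * A = A * U := mul_comm _ _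
      linarith
    have h4 : U < (u - 1) * (u + 1) ^ 2 := lt_of_mul_lt_mul_right h3 hA.le
    omega

/-- negative value, `U = u ^ M - 1` -/
theorem coreL {u Q A U K w : ℤ} (hu : 0 < u) (hQ : 0 < Q) (hA : 0 < A) (hU : 0 < U)
    (heq : u * U * (A - (Q - 1) ^ 2) = Q * A * (U + (u - 1) ^ 2)) (hQ1 : 1 < Q) (hw : 4 ≤ w) (hK : K * A = w * U)
    (H4 : K * u ^ 3 < 4 * U) (H5 : 2 * (u - 1) ^ 3 ≤ U) (H6 : u ^ 2 * (u - 1) ^ 2 < 4 * U) : False := by
  have hK0 : 0 < K := by
    by_contra hcon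
    have h1 : K * A ≤ 0 := mul_nonpos_of_nonpos_of_nonneg (by omega) hA.le
    have h2 : 0 < w * U := mul_pos (by omega) hU
    omega
  have e1 : (u - Q) * (A * U) = u * (Q - 1) ^ 2 * U + Q * (u - 1) ^ 2 * A := by linear_combination heq
  have hAU : 0 < A * U := mul_pos hA hU
  have hQ2 : 0 < (Q - 1) ^ 2 := by positivity
  have h : Q < u := by
    by_contra hcon
    have h1 : (u - Q) * (A * U) ≤ 0 := mul_nonpos_of_nonpos_of_nonneg (by omega) hAU.le
    have h2 : 0 ≤ Q * (u - 1) ^ 2 * A := by positivity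
    have h3 : 0 < u * (Q - 1) ^ 2 * U := by positivity
    omega
  have h6 : 2 * (Q * (u - 1) ^ 2 * A) ≤ U * A := by
    calc 2 * (Q * (u - 1) ^ 2 * A) ≤ 2 * ((u - 1) * (u - 1) ^ 2 * A) := by
          have h7 : Q * (u - 1) ^ 2 * A ≤ (u - 1) * (u - 1) ^ 2 * A :=
            mul_le_mul_of_nonneg_right (mul_le_mul_of_nonneg_right (by omega) (by positivity)) hA.le
          linarith
      _ = 2 * (u - 1) ^ 3 * A := by ring
      _ ≤ U * A := mul_le_mul_of_nonneg_right H5 hA.le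
  have hkey : A < u ^ 3 := by
    rcases eq_or_lt_of_le (show Q + 1 ≤ u by omega) with h1 | h1
    · have hQu : Q = u - 1 := by omega
      subst hQu
      have e2 : A * (U - (u - 1) ^ 3) = u * (u - 2) ^ 2 * U := by linear_combination e1
      by_contra hcon
      have h2 : u ^ 3 * (U - (u - 1) ^ 3) ≤ A * (U - (u - 1) ^ 3) := by
        refine mul_le_mul_of_nonneg_right (by omega) ?_
        have : 0 < (u - 1) ^ 3 := by positivity
        linarith
      have h3 : 0 < (u * (u - 1)) * (4 * U - u ^ 2 * (u - 1) ^ 2) := mul_pos (mul_pos hu hQ) (by linarith)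
      have h4 : (u * (u - 1)) * (4 * U - u ^ 2 * (u - 1) ^ 2) =
          u ^ 3 * (U - (u - 1) ^ 3) - u * (u - 2) ^ 2 * U := by ring
      linarith
    · have h2 : 2 * (A * U) ≤ (u - Q) * (A * U) := by
        have h2 : 0 ≤ (u - Q - 2) * (A * U) := mul_nonneg (by omega) hAU.le
        linarith
      have h4 : (Q - 1) ^ 2 ≤ u ^ 2 := pow_le_pow_left₀ (by omega) (by omega) 2
      have h5 : u * (Q - 1) ^ 2 * U ≤ u ^ 3 * U := by
        calc u * (Q - 1) ^ 2 * U ≤ u * u ^ 2 * U :=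
              mul_le_mul_of_nonneg_right (mul_le_mul_of_nonneg_left h4 hu.le) hU.le
          _ = _ := by ring
      have h7 : A * U < u ^ 3 * U := by
        have h8 : U * A = A * U := mul_comm _ _
        linarith
      exact lt_of_mul_lt_mul_right h7 hU.le
  have h9 : K * A < K * u ^ 3 := mul_lt_mul_of_pos_left hkey hK0
  have h10 : 4 * U ≤ w * U := mul_le_mul_of_nonneg_right hw hU.le
  linarith

/-- the second row of `PSL`, `v = u - 1` -/
theorem coreM_I {v Q A U w : ℤ} (hv : 0 < v) (hQ : 0 < Q) (hA : 0 < A) (hU : 0 < U)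
    (heq : v * U * (A - (Q + 1) ^ 2) = Q * A * (U + v)) (hw : 4 ≤ w) (hK : v * A = w * U)
    (H5 : v ^ 4 < 2 * U) (H6 : 2 * v ^ 2 ≤ U) : False := by
  have e1 : (v - Q) * (A * U) = v * (Q + 1) ^ 2 * U + Q * v * A := by linear_combination heq
  have hAU : 0 < A * U := mul_pos hA hU
  have h : Q < v := by
    by_contra hcon
    have h1 : (v - Q) * (A * U) ≤ 0 := mul_nonpos_of_nonpos_of_nonneg (by omega) hAU.le
    have h2 : 0 < Q * v * A := by positivity
    have h3 : 0 < v * (Q + 1) ^ 2 * U := by positivity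
    omega
  have h1 : A * U ≤ (v - Q) * (A * U) := by
    have h2 : 0 ≤ (v - Q - 1) * (A * U) := mul_nonneg (by omega) hAU.le
    linarith
  have h4 : (Q + 1) ^ 2 ≤ v ^ 2 := pow_le_pow_left₀ (by omega) (by omega) 2
  have h5 : v * (Q + 1) ^ 2 * U ≤ v ^ 3 * U := by
    calc v * (Q + 1) ^ 2 * U ≤ v * v ^ 2 * U :=
          mul_le_mul_of_nonneg_right (mul_le_mul_of_nonneg_left h4 hv.le) hU.le
      _ = _ := by ring
  have h6 : 2 * (Q * v * A) ≤ U * A := by
    calc 2 * (Q * v * A) ≤ 2 * (v * v * A) := by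
          have h7 : Q * v * A ≤ v * v * A :=
            mul_le_mul_of_nonneg_right (mul_le_mul_of_nonneg_right (by omega) hv.le) hA.le
          linarith
      _ = 2 * v ^ 2 * A := by ring
      _ ≤ U * A := mul_le_mul_of_nonneg_right H6 hA.le
  have h7 : A * U ≤ (2 * v ^ 3) * U := by
    have : U * A = A * U := mul_comm _ _
    linarith
  have h8 : A ≤ 2 * v ^ 3 := le_of_mul_le_mul_right h7 hU
  have h9 : v * A ≤ v * (2 * v ^ 3) := mul_le_mul_of_nonneg_left h8 hv.le
  have h10 : 4 * U ≤ w * U := mul_le_mul_of_nonneg_right hw hU.le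
  have h11 : v * (2 * v ^ 3) = 2 * v ^ 4 := by ring
  linarith

theorem coreM_P {v q A U w : ℤ} (hv : 0 < v) (hq : 2 ≤ q) (hA : 0 < A) (hU : 0 < U)
    (heq : v * U * (A + (q - 1) * (q + 1) ^ 2) = q * A * (U + v)) (hAq : q ^ 4 < A) (hK : v * A = w * U)
    (hw : w < (q - 1) * (q + 1) ^ 2) (H5 : v ^ 2 < U) : False := by
  have e1 : (q - v) * (A * U) = v * ((q - 1) * (q + 1) ^ 2) * U - q * v * A := by linear_combination -heq
  have hAU : 0 < A * U := mul_pos hA hU
  have hq1 : 0 < (q - 1) * (q + 1) ^ 2 := mul_pos (by omega) (by positivity)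
  rcases lt_trichotomy v q with h | h | h
  · have h1 : A * U ≤ (q - v) * (A * U) := by
      have h2 : 0 ≤ (q - v - 1) * (A * U) := mul_nonneg (by omega) hAU.le
      linarith
    have h2 : v * ((q - 1) * (q + 1) ^ 2) ≤ (q - 1) * ((q - 1) * (q + 1) ^ 2) :=
      mul_le_mul_of_nonneg_right (by omega) hq1.le
    have h3 : (q - 1) * ((q - 1) * (q + 1) ^ 2) ≤ q ^ 4 := by
      have e : (q - 1) * ((q - 1) * (q + 1) ^ 2) = (q ^ 2 - 1) ^ 2 := by ring
      rw [e]
      have h4 : (q ^ 2 - 1) ^ 2 ≤ (q ^ 2) ^ 2 := pow_le_pow_left₀ (by nlinarith) (by omega) 2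
      calc _ ≤ _ := h4
        _ = _ := by ring
    have h4 : v * ((q - 1) * (q + 1) ^ 2) * U ≤ q ^ 4 * U := mul_le_mul_of_nonneg_right (h2.trans h3) hU.le
    have h5 : 0 < q * v * A := by positivity
    have h6 : A * U < q ^ 4 * U := by linarith
    have h7 : A < q ^ 4 := lt_of_mul_lt_mul_right h6 hU.le
    omega
  · subst h
    rw [sub_self, zero_mul] at e1
    have h1 : v * (((v - 1) * (v + 1) ^ 2) * U) = v * (v * A) := by linear_combination -e1
    have h2 := mul_left_cancel₀ hv.ne' h1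
    rw [hK] at h2
    have h3 := mul_right_cancel₀ hU.ne' h2
    omega
  · have h1 : A * U ≤ (v - q) * (A * U) := by
      have h2 : 0 ≤ (v - q - 1) * (A * U) := mul_nonneg (by omega) hAU.le
      linarith
    have h2 : 0 < v * ((q - 1) * (q + 1) ^ 2) * U := by positivity
    have h3 : U * A < (v ^ 2) * A := by
      have h4 : q * v * A ≤ v * v * A :=
        mul_le_mul_of_nonneg_right (mul_le_mul_of_nonneg_right (by omega) hv.le) hA.le
      have h5 : U * A = A * U := mul_comm _ _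
      have h6 : v * v * A = v ^ 2 * A := by ring
      linarith
    have h4 : U < v ^ 2 := lt_of_mul_lt_mul_right h3 hA.le
    omega

end Cfsg.Agent.H437.Win
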