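import Cfsg.Agent.H437.Win.Ctx

/-!
# The numerical cores in the context
-/

set_option autoImplicit false

namespace Cfsg.Agent.H437.Win

variable {p q n R w : ℕ}

theorem cube_bound {u : ℤ} (hu : 2 ≤ u) : 4 * (u + 1) ^ 2 ≤ 9 * u ^ 2 := by nlinarith

namespace Ctx

variable (h : Ctx p q n R w)

include h

theorem A_big : 27 * (q : ℤ) ^ 4 ≤ (q : ℤ) ^ n + 1 := by
  have h3 := h.num.q3
  have h7 := h.num.h7
  have h1 : (q : ℤ) ^ 7 ≤ (q : ℤ) ^ n := pow_le_pow_right₀ (by omega) h7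
  have h2 : (27 : ℤ) * (q : ℤ) ^ 4 ≤ (q : ℤ) ^ 7 := by
    calc (27 : ℤ) * (q : ℤ) ^ 4 = 3 ^ 3 * (q : ℤ) ^ 4 := by norm_num
      _ ≤ (q : ℤ) ^ 3 * (q : ℤ) ^ 4 :=
        mul_le_mul_of_nonneg_right (pow_le_pow_left₀ (by norm_num) (by exact_mod_cast h3) 3) (by positivity)
      _ = _ := by ring
  linarith

/-- `U`-type, odd exponent -/
theorem uOdd {u M K E : ℕ} (hu : 2 ≤ u) (hne : ∀ b, 1 ≤ b → u ≠ q ^ b) (hK : R * K = u ^ M + 1)
    (hE : K * E = (u ^ (M - 1) - 1) * (u + 1)) (hS : Spec p q n (w * ((E : ℤ) - R)))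
    (hM : (5 ≤ M ∧ K ≤ (u + 1) ^ 2) ∨ (4 ≤ M ∧ K ≤ 2)) : False := by
  have hM4 : 4 ≤ M := by rcases hM with h1 | h1 <;> omega
  have hR := h.R547
  have hw := h.w4
  have hq3 := h.num.q3
  obtain ⟨N, rfl⟩ : ∃ N, M = N + 1 := ⟨M - 1, by omega⟩
  rw [Nat.add_sub_cancel] at hE
  have hK0 : 0 < K := by
    rcases Nat.eq_zero_or_pos K with h0 | h0
    · rw [h0, mul_zero] at hK; omega
    · exact h0
  have hU547 : 547 ≤ u ^ (N + 1) + 1 := by
    rw [← hK]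
    calc 547 ≤ R * 1 := by omega
      _ ≤ _ := Nat.mul_le_mul_left _ hK0
  have h1N : 1 ≤ u ^ N := Nat.one_le_pow _ _ (by omega)
  -- the numbers
  have huZ : (2 : ℤ) ≤ u := by exact_mod_cast hu
  have hKZ0 : (0 : ℤ) < K := by exact_mod_cast hK0
  have hUZ : (547 : ℤ) ≤ (u : ℤ) ^ (N + 1) + 1 := by exact_mod_cast hU547
  have hKZ : (R : ℤ) * K = (u : ℤ) ^ (N + 1) + 1 := by exact_mod_cast hK
  have hEZ : (K : ℤ) * E = ((u : ℤ) ^ N - 1) * (u + 1) := by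
    have : ((K * E : ℕ) : ℤ) = (((u ^ N - 1) * (u + 1) : ℕ) : ℤ) := by rw [hE]
    push_cast [h1N] at this
    exact this
  set A : ℤ := (q : ℤ) ^ n + 1 with hA
  have hA0 : 0 < A := by rw [hA]; positivity
  have hRA : (R : ℤ) * w = A := h.hRZ
  set U : ℤ := (u : ℤ) ^ (N + 1) + 1 with hU
  have hU0 : 0 < U := by linarith
  have hKA : (K : ℤ) * A = w * U := by rw [← hRA, ← hKZ]; ring
  have hup : (u : ℤ) ^ (N + 1) = u * (u : ℤ) ^ N := by ring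
  set X : ℤ := w * ((E : ℤ) - R) with hX
  have e1 : (K : ℤ) * ((E : ℤ) - R) = (u : ℤ) ^ N - u - 2 := by
    rw [mul_sub, hEZ, mul_comm (K : ℤ) R, hKZ, hU, hup]
    ring
  have e2 : X * U = A * ((u : ℤ) ^ N - u - 2) := by
    have h2 : (K : ℤ) * (X * U) = K * (A * ((u : ℤ) ^ N - u - 2)) := by
      rw [hX]
      calc (K : ℤ) * (w * ((E : ℤ) - R) * U) = (w * U) * (K * ((E : ℤ) - R)) := by ring
        _ = (K * A) * ((u : ℤ) ^ N - u - 2) := by rw [e1, hKA]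
        _ = _ := by ring
    exact mul_left_cancel₀ hKZ0.ne' h2
  have e3 : u * X * U = A * (U - (u + 1) ^ 2) := by
    calc u * X * U = u * (X * U) := by ring
      _ = A * (u * (u : ℤ) ^ N - u ^ 2 - 2 * u) := by rw [e2]; ring
      _ = _ := by rw [← hup, hU]; ring
  -- estimates
  have hN3 : (u : ℤ) ^ 4 ≤ (u : ℤ) ^ (N + 1) := pow_le_pow_right₀ (by omega) hM4
  have H5 : 27 * ((u : ℤ) + 1) ^ 3 < 26 * U := by
    rcases eq_or_lt_of_le huZ with h2 | h2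
    · rw [← h2]; linarith
    · have h3 : (3 : ℤ) ≤ u := by omega
      have h4 : 27 * ((u : ℤ) + 1) ^ 3 < 26 * ((u : ℤ) ^ 4 + 1) := by nlinarith [mul_nonneg (sub_nonneg.2 h3) (sub_nonneg.2 h3), mul_nonneg (mul_nonneg (sub_nonneg.2 h3) (sub_nonneg.2 h3)) (sub_nonneg.2 h3), mul_nonneg (mul_nonneg (sub_nonneg.2 h3) (sub_nonneg.2 h3)) (mul_nonneg (sub_nonneg.2 h3) (sub_nonneg.2 h3))]
      linarith
  have H4 : (K : ℤ) * (u : ℤ) ^ 3 < 4 * U := by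
    rcases hM with ⟨h2, h3⟩ | ⟨h2, h3⟩
    · have h4 : (u : ℤ) ^ 5 ≤ (u : ℤ) ^ (N + 1) := pow_le_pow_right₀ (by omega) h2
      have h5 : (K : ℤ) ≤ ((u : ℤ) + 1) ^ 2 := by exact_mod_cast h3
      have h6 : (K : ℤ) * (u : ℤ) ^ 3 ≤ ((u : ℤ) + 1) ^ 2 * (u : ℤ) ^ 3 := mul_le_mul_of_nonneg_right h5 (by positivity)
      have h7 : 4 * (((u : ℤ) + 1) ^ 2 * (u : ℤ) ^ 3) ≤ 9 * (u : ℤ) ^ 5 := by
        calc 4 * (((u : ℤ) + 1) ^ 2 * (u : ℤ) ^ 3) = (4 * ((u : ℤ) + 1) ^ 2) * (u : ℤ) ^ 3 := by ring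
          _ ≤ (9 * (u : ℤ) ^ 2) * (u : ℤ) ^ 3 := mul_le_mul_of_nonneg_right (cube_bound huZ) (by positivity)
          _ = _ := by ring
      have h8 : (0 : ℤ) < (u : ℤ) ^ 5 := by positivity
      linarith
    · have h5 : (K : ℤ) ≤ 2 := by exact_mod_cast h3
      have h6 : (K : ℤ) * (u : ℤ) ^ 3 ≤ 2 * (u : ℤ) ^ 3 := mul_le_mul_of_nonneg_right h5 (by positivity)
      have h7 : 2 * (u : ℤ) ^ 3 ≤ (u : ℤ) ^ 4 := by
        calc 2 * (u : ℤ) ^ 3 ≤ u * (u : ℤ) ^ 3 := mul_le_mul_of_nonneg_right huZ (by positivity)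
          _ = _ := by ring
      linarith
  have H5' : ((u : ℤ) + 1) ^ 3 ≤ U := by linarith [pow_pos (show (0 : ℤ) < (u : ℤ) + 1 by omega) 3]
  -- the sign
  have hXpos : 0 < X := by
    have h2 : 0 < A * (U - (u + 1) ^ 2) := by
      refine mul_pos hA0 ?_
      have : ((u : ℤ) + 1) ^ 2 < ((u : ℤ) + 1) ^ 3 := by
        calc ((u : ℤ) + 1) ^ 2 = 1 * ((u : ℤ) + 1) ^ 2 := by ring
          _ < (u + 1) * ((u : ℤ) + 1) ^ 2 := mul_lt_mul_of_pos_right (by omega) (by positivity)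
          _ = _ := by ring
      linarith
    rw [← e3] at h2
    have h3 : 0 < u * X := (mul_pos_iff_of_pos_right hU0).1 h2
    exact (mul_pos_iff_of_pos_left (by omega)).1 h3
  obtain ⟨a, -, ha1, ha2, hcase⟩ := hS.pos_cases h.num hXpos.le
  rcases hcase with hc | ⟨-, hqp, hc⟩
  · have hQ := zpow_pos h.num (n - a)
    have hQX : (q : ℤ) ^ (n - a) * X = A - ((q : ℤ) ^ (n - a) + 1) ^ 2 := by
      have h2 : (q : ℤ) ^ (n - a) * (q : ℤ) ^ a = (q : ℤ) ^ n := by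
        rw [← pow_add]; congr 1; omega
      rw [hc, hA, ← h2]
      ring
    refine coreU_I (u := u) (Q := (q : ℤ) ^ (n - a)) (A := A) (U := U) (K := K) (w := w) (by omega) hQ hA0 hU0 ?_ ?_
      (by exact_mod_cast hw) hKA H4 H5'
    · rw [← hQX]
      calc (u : ℤ) * U * ((q : ℤ) ^ (n - a) * X) = (q : ℤ) ^ (n - a) * (u * X * U) := by ring
        _ = _ := by rw [e3]; ring
    · intro h2
      exact hne (n - a) (by omega) (by exact_mod_cast h2)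
  · have hQX : (q : ℤ) * X = A + ((q : ℤ) - 1) * (q + 1) ^ 2 := by
      have h2 : (q : ℤ) * (q : ℤ) ^ (n - 1) = (q : ℤ) ^ n := by
        rw [← pow_succ']; congr 1; omega
      rw [hc, hA, ← h2]
      ring
    refine coreU_P (u := u) (q := q) (A := A) (U := U) (by omega) (by omega) hA0 hU0 ?_ h.A_big H5
    rw [← hQX]
    calc (u : ℤ) * U * ((q : ℤ) * X) = (q : ℤ) * (u * X * U) := by ring
      _ = _ := by rw [e3]; ring

/-- `U`-type, even exponent -/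
theorem uEven {u M K E : ℕ} (hu : 2 ≤ u) (hne : ∀ b, 1 ≤ b → u ≠ q ^ b) (hK : R * K = u ^ M - 1)
    (hE : K * E = (u ^ (M - 1) + 1) * (u + 1)) (hS : Spec p q n (w * ((E : ℤ) - R)))
    (hM : 6 ≤ M) (hKu : K ≤ (u + 1) ^ 2) : False := by
  have hR := h.R547
  have hw := h.w4
  have hq3 := h.num.q3
  obtain ⟨N, rfl⟩ : ∃ N, M = N + 1 := ⟨M - 1, by omega⟩
  rw [Nat.add_sub_cancel] at hE
  have h1N : 1 ≤ u ^ (N + 1) := Nat.one_le_pow _ _ (by omega)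
  have hK0 : 0 < K := by
    rcases Nat.eq_zero_or_pos K with h0 | h0
    · rw [h0, zero_mul] at hE
      have : 0 < (u ^ N + 1) * (u + 1) := by positivity
      omega
    · exact h0
  -- the numbers
  have huZ : (2 : ℤ) ≤ u := by exact_mod_cast hu
  have hKZ0 : (0 : ℤ) < K := by exact_mod_cast hK0
  have hKZ : (R : ℤ) * K = (u : ℤ) ^ (N + 1) - 1 := by
    have : ((R * K : ℕ) : ℤ) = ((u ^ (N + 1) - 1 : ℕ) : ℤ) := by rw [hK]
    push_cast [h1N] at this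
    exact this
  have hEZ : (K : ℤ) * E = ((u : ℤ) ^ N + 1) * (u + 1) := by exact_mod_cast hE
  set A : ℤ := (q : ℤ) ^ n + 1 with hA
  have hA0 : 0 < A := by rw [hA]; positivity
  have hRA : (R : ℤ) * w = A := h.hRZ
  set U : ℤ := (u : ℤ) ^ (N + 1) - 1 with hU
  have hN6 : (u : ℤ) ^ 6 ≤ (u : ℤ) ^ (N + 1) := pow_le_pow_right₀ (by omega) hM
  have h64 : 64 ≤ (u : ℤ) ^ 6 := by
    calc (64 : ℤ) = 2 ^ 6 := by norm_num
      _ ≤ _ := pow_le_pow_left₀ (by norm_num) huZ 6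
  have hU0 : 0 < U := by linarith
  have hKA : (K : ℤ) * A = w * U := by rw [← hRA, ← hKZ]; ring
  have hup : (u : ℤ) ^ (N + 1) = u * (u : ℤ) ^ N := by ring
  set X : ℤ := w * ((E : ℤ) - R) with hX
  have e1 : (K : ℤ) * ((E : ℤ) - R) = (u : ℤ) ^ N + u + 2 := by
    rw [mul_sub, hEZ, mul_comm (K : ℤ) R, hKZ, hU, hup]
    ring
  have e2 : X * U = A * ((u : ℤ) ^ N + u + 2) := by
    have h2 : (K : ℤ) * (X * U) = K * (A * ((u : ℤ) ^ N + u + 2)) := by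
      rw [hX]
      calc (K : ℤ) * (w * ((E : ℤ) - R) * U) = (w * U) * (K * ((E : ℤ) - R)) := by ring
        _ = (K * A) * ((u : ℤ) ^ N + u + 2) := by rw [e1, hKA]
        _ = _ := by ring
    exact mul_left_cancel₀ hKZ0.ne' h2
  have e3 : u * X * U = A * (U + (u + 1) ^ 2) := by
    calc u * X * U = u * (X * U) := by ring
      _ = A * (u * (u : ℤ) ^ N + u ^ 2 + 2 * u) := by rw [e2]; ring
      _ = _ := by rw [← hup, hU]; ring
  have hu5 : (32 : ℤ) ≤ (u : ℤ) ^ 5 := by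
    calc (32 : ℤ) = 2 ^ 5 := by norm_num
      _ ≤ _ := pow_le_pow_left₀ (by norm_num) huZ 5
  have hu56 : 2 * (u : ℤ) ^ 5 ≤ (u : ℤ) ^ 6 := by
    calc 2 * (u : ℤ) ^ 5 ≤ u * (u : ℤ) ^ 5 := mul_le_mul_of_nonneg_right huZ (by positivity)
      _ = _ := by ring
  have H4 : (K : ℤ) * (u : ℤ) ^ 3 < 2 * U := by
    have h5 : (K : ℤ) ≤ ((u : ℤ) + 1) ^ 2 := by exact_mod_cast hKu
    have h6 : (K : ℤ) * (u : ℤ) ^ 3 ≤ ((u : ℤ) + 1) ^ 2 * (u : ℤ) ^ 3 := mul_le_mul_of_nonneg_right h5 (by positivity)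
    have h7 : 4 * (((u : ℤ) + 1) ^ 2 * (u : ℤ) ^ 3) ≤ 9 * (u : ℤ) ^ 5 := by
      calc 4 * (((u : ℤ) + 1) ^ 2 * (u : ℤ) ^ 3) = (4 * ((u : ℤ) + 1) ^ 2) * (u : ℤ) ^ 3 := by ring
        _ ≤ (9 * (u : ℤ) ^ 2) * (u : ℤ) ^ 3 := mul_le_mul_of_nonneg_right (cube_bound huZ) (by positivity)
        _ = _ := by ring
    linarith
  have H5 : 2 * (((u : ℤ) - 1) * (u + 1) ^ 2) ≤ U := by
    have h7 : 4 * (((u : ℤ) - 1) * (u + 1) ^ 2) ≤ 9 * (u : ℤ) ^ 3 := by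
      calc 4 * (((u : ℤ) - 1) * (u + 1) ^ 2) = ((u : ℤ) - 1) * (4 * ((u : ℤ) + 1) ^ 2) := by ring
        _ ≤ ((u : ℤ) - 1) * (9 * (u : ℤ) ^ 2) := mul_le_mul_of_nonneg_left (cube_bound huZ) (by omega)
        _ ≤ (u : ℤ) * (9 * (u : ℤ) ^ 2) := mul_le_mul_of_nonneg_right (by omega) (by positivity)
        _ = _ := by ring
    have h8 : 8 * (u : ℤ) ^ 3 ≤ (u : ℤ) ^ 6 := by
      calc 8 * (u : ℤ) ^ 3 = 2 ^ 3 * (u : ℤ) ^ 3 := by norm_num
        _ ≤ (u : ℤ) ^ 3 * (u : ℤ) ^ 3 :=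
          mul_le_mul_of_nonneg_right (pow_le_pow_left₀ (by norm_num) huZ 3) (by positivity)
        _ = _ := by ring
    linarith
  have hXpos : 0 < X := by
    have h2 : 0 < A * (U + (u + 1) ^ 2) := by positivity
    rw [← e3] at h2
    have h3 : 0 < u * X := (mul_pos_iff_of_pos_right hU0).1 h2
    exact (mul_pos_iff_of_pos_left (by omega)).1 h3
  obtain ⟨a, -, ha1, ha2, hcase⟩ := hS.pos_cases h.num hXpos.le
  rcases hcase with hc | ⟨-, hqp, hc⟩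
  · have hQ := zpow_pos h.num (n - a)
    have hQX : (q : ℤ) ^ (n - a) * X = A - ((q : ℤ) ^ (n - a) + 1) ^ 2 := by
      have h2 : (q : ℤ) ^ (n - a) * (q : ℤ) ^ a = (q : ℤ) ^ n := by
        rw [← pow_add]; congr 1; omega
      rw [hc, hA, ← h2]
      ring
    refine coreV_I (u := u) (Q := (q : ℤ) ^ (n - a)) (A := A) (U := U) (K := K) (w := w) (by omega) hQ hA0 hU0 ?_
      (by exact_mod_cast hw) hKA H4 H5
    rw [← hQX]
    calc (u : ℤ) * U * ((q : ℤ) ^ (n - a) * X) = (q : ℤ) ^ (n - a) * (u * X * U) := by ring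
      _ = _ := by rw [e3]; ring
  · have hQX : (q : ℤ) * X = A + ((q : ℤ) - 1) * (q + 1) ^ 2 := by
      have h2 : (q : ℤ) * (q : ℤ) ^ (n - 1) = (q : ℤ) ^ n := by
        rw [← pow_succ']; congr 1; omega
      rw [hc, hA, ← h2]
      ring
    have hq4 : (q : ℤ) ^ 4 < A := by
      have h2 := h.A_big
      have h3 : (0 : ℤ) < (q : ℤ) ^ 4 := by positivity
      linarith
    have hpos : 0 < ((u : ℤ) - 1) * (u + 1) ^ 2 := mul_pos (by omega) (by positivity)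
    refine coreV_P (u := u) (q := q) (A := A) (U := U) (by omega) (by omega) hA0 hU0 ?_ ?_ hq4 (by linarith)
    · intro h2
      exact hne 1 le_rfl (by rw [pow_one]; exact_mod_cast h2)
    · rw [← hQX]
      calc (u : ℤ) * U * ((q : ℤ) * X) = (q : ℤ) * (u * X * U) := by ring
        _ = _ := by rw [e3]; ring

/-- `L`-type -/
theorem lType {u M K E : ℕ} (hu : 2 ≤ u) (hK : R * K = u ^ M - 1)
    (hE : K * E = (u ^ (M - 1) - 1) * (u - 1)) (hS : Spec p q n (w * ((E : ℤ) - R)))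
    (hM : (5 ≤ M ∧ K ≤ (u - 1) ^ 2) ∨ (4 ≤ M ∧ K ≤ 4 * (u - 1))) : False := by
  have hM4 : 4 ≤ M := by rcases hM with h1 | h1 <;> omega
  have hR := h.R547
  have hw := h.w4
  have hq3 := h.num.q3
  obtain ⟨N, rfl⟩ : ∃ N, M = N + 1 := ⟨M - 1, by omega⟩
  rw [Nat.add_sub_cancel] at hE
  have h1N : 1 ≤ u ^ (N + 1) := Nat.one_le_pow _ _ (by omega)
  have h1N' : 1 ≤ u ^ N := Nat.one_le_pow _ _ (by omega)
  have huZ : (2 : ℤ) ≤ u := by exact_mod_cast hu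
  have hN4 : (u : ℤ) ^ 4 ≤ (u : ℤ) ^ (N + 1) := pow_le_pow_right₀ (by omega) hM4
  have h16 : 16 ≤ (u : ℤ) ^ 4 := by
    calc (16 : ℤ) = 2 ^ 4 := by norm_num
      _ ≤ _ := pow_le_pow_left₀ (by norm_num) huZ 4
  have hKZ : (R : ℤ) * K = (u : ℤ) ^ (N + 1) - 1 := by
    have : ((R * K : ℕ) : ℤ) = ((u ^ (N + 1) - 1 : ℕ) : ℤ) := by rw [hK]
    push_cast [h1N] at this
    exact this
  have hKZ0 : (0 : ℤ) < K := by
    rcases Nat.eq_zero_or_pos K with h0 | h0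
    · rw [h0, Nat.cast_zero, mul_zero] at hKZ
      omega
    · exact_mod_cast h0
  have hEZ : (K : ℤ) * E = ((u : ℤ) ^ N - 1) * (u - 1) := by
    have : ((K * E : ℕ) : ℤ) = (((u ^ N - 1) * (u - 1) : ℕ) : ℤ) := by rw [hE]
    push_cast [h1N', show 1 ≤ u by omega] at this
    exact this
  set A : ℤ := (q : ℤ) ^ n + 1 with hA
  have hA0 : 0 < A := by rw [hA]; positivity
  have hRA : (R : ℤ) * w = A := h.hRZ
  set U : ℤ := (u : ℤ) ^ (N + 1) - 1 with hU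
  have hU0 : 0 < U := by linarith
  have hKA : (K : ℤ) * A = w * U := by rw [← hRA, ← hKZ]; ring
  have hup : (u : ℤ) ^ (N + 1) = u * (u : ℤ) ^ N := by ring
  set X : ℤ := w * ((E : ℤ) - R) with hX
  have e1 : (K : ℤ) * ((E : ℤ) - R) = -((u : ℤ) ^ N + u - 2) := by
    rw [mul_sub, hEZ, mul_comm (K : ℤ) R, hKZ, hU, hup]
    ring
  have e2 : -X * U = A * ((u : ℤ) ^ N + u - 2) := by
    have h2 : (K : ℤ) * (-X * U) = K * (A * ((u : ℤ) ^ N + u - 2)) := by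
      rw [hX]
      calc (K : ℤ) * (-(w * ((E : ℤ) - R)) * U) = -((w * U) * (K * ((E : ℤ) - R))) := by ring
        _ = (K * A) * ((u : ℤ) ^ N + u - 2) := by rw [e1, hKA]; ring
        _ = _ := by ring
    exact mul_left_cancel₀ hKZ0.ne' h2
  have e3 : u * (-X) * U = A * (U + (u - 1) ^ 2) := by
    calc u * (-X) * U = u * (-X * U) := by ring
      _ = A * (u * (u : ℤ) ^ N + u ^ 2 - 2 * u) := by rw [e2]; ring
      _ = _ := by rw [← hup, hU]; ring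
  have hXneg : X < 0 := by
    have h2 : 0 < A * (U + (u - 1) ^ 2) := by positivity
    rw [← e3] at h2
    have h3 : 0 < u * (-X) := (mul_pos_iff_of_pos_right hU0).1 h2
    have h4 : 0 < -X := (mul_pos_iff_of_pos_left (by omega)).1 h3
    omega
  have hu34 : 2 * (u : ℤ) ^ 3 ≤ (u : ℤ) ^ 4 := by
    calc 2 * (u : ℤ) ^ 3 ≤ u * (u : ℤ) ^ 3 := mul_le_mul_of_nonneg_right huZ (by positivity)
      _ = _ := by ring
  have H4 : (K : ℤ) * (u : ℤ) ^ 3 < 4 * U := by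
    rcases hM with ⟨h2, h3⟩ | ⟨h2, h3⟩
    · have h4 : (u : ℤ) ^ 5 ≤ (u : ℤ) ^ (N + 1) := pow_le_pow_right₀ (by omega) h2
      have h5 : (K : ℤ) ≤ ((u : ℤ) - 1) ^ 2 := by
        have : ((K : ℕ) : ℤ) ≤ (((u - 1) ^ 2 : ℕ) : ℤ) := by exact_mod_cast h3
        push_cast [show 1 ≤ u by omega] at this
        exact this
      have h6 : (K : ℤ) * (u : ℤ) ^ 3 ≤ (u : ℤ) ^ 5 := by
        calc (K : ℤ) * (u : ℤ) ^ 3 ≤ ((u : ℤ) - 1) ^ 2 * (u : ℤ) ^ 3 := mul_le_mul_of_nonneg_right h5 (by positivity)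
          _ ≤ (u : ℤ) ^ 2 * (u : ℤ) ^ 3 := by
            refine mul_le_mul_of_nonneg_right (pow_le_pow_left₀ (by omega) (by omega) 2) (by positivity)
          _ = _ := by ring
      linarith
    · have h5 : (K : ℤ) ≤ 4 * ((u : ℤ) - 1) := by
        have : ((K : ℕ) : ℤ) ≤ ((4 * (u - 1) : ℕ) : ℤ) := by exact_mod_cast h3
        push_cast [show 1 ≤ u by omega] at this
        exact this
      have h6 : (K : ℤ) * (u : ℤ) ^ 3 ≤ 4 * ((u : ℤ) - 1) * (u : ℤ) ^ 3 := mul_le_mul_of_nonneg_right h5 (by positivity)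
      have h7 : 8 ≤ (u : ℤ) ^ 3 := by
        calc (8 : ℤ) = 2 ^ 3 := by norm_num
          _ ≤ _ := pow_le_pow_left₀ (by norm_num) huZ 3
      have h8 : 4 * ((u : ℤ) - 1) * (u : ℤ) ^ 3 = 4 * (u : ℤ) ^ 4 - 4 * (u : ℤ) ^ 3 := by ring
      linarith
  have hb : ((u : ℤ) - 1) ^ 3 ≤ (u : ℤ) ^ 3 - 1 := by nlinarith
  have H5 : 2 * ((u : ℤ) - 1) ^ 3 ≤ U := by linarith
  have H6 : (u : ℤ) ^ 2 * (u - 1) ^ 2 < 4 * U := by
    have h2 : (u : ℤ) ^ 2 * (u - 1) ^ 2 ≤ (u : ℤ) ^ 4 := by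
      calc (u : ℤ) ^ 2 * (u - 1) ^ 2 ≤ (u : ℤ) ^ 2 * (u : ℤ) ^ 2 :=
            mul_le_mul_of_nonneg_left (pow_le_pow_left₀ (by omega) (by omega) 2) (by positivity)
        _ = _ := by ring
    linarith
  obtain ⟨b, -, hb1, hb2, hc⟩ := hS.neg_cases h.num hXneg.le
  have hQ := zpow_pos h.num (n - b)
  have hQ9 := zpow_nine' h.num (i := n - b) (by omega)
  have hQX : (q : ℤ) ^ (n - b) * (-X) = A - ((q : ℤ) ^ (n - b) - 1) ^ 2 := by
    have h2 : (q : ℤ) ^ (n - b) * (q : ℤ) ^ b = (q : ℤ) ^ n := by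
      rw [← pow_add]; congr 1; omega
    rw [hc, hA, ← h2]
    ring
  refine coreL (u := u) (Q := (q : ℤ) ^ (n - b)) (A := A) (U := U) (K := K) (w := w) (by omega) hQ hA0 hU0 ?_
    (by omega) (by exact_mod_cast hw) hKA H4 H5 H6
  rw [← hQX]
  calc (u : ℤ) * U * ((q : ℤ) ^ (n - b) * (-X)) = (q : ℤ) ^ (n - b) * (u * (-X) * U) := by ring
    _ = _ := by rw [e3]; ring

/-- the second row of `PSL` -/
theorem mType {v M E : ℕ} (hv : 1 ≤ v) (hK : R * v = (v + 1) ^ M - 1)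
    (hE : E * v ^ 2 = (v + 1) ^ (M + 1) - 1) (hS : Spec p q n (w * ((E : ℤ) - R))) (hM : 4 ≤ M) : False := by
  have hR := h.R547
  have hw := h.w4
  have hq3 := h.num.q3
  have h1N : 1 ≤ (v + 1) ^ M := Nat.one_le_pow _ _ (by omega)
  have h1N' : 1 ≤ (v + 1) ^ (M + 1) := Nat.one_le_pow _ _ (by omega)
  have hvZ : (1 : ℤ) ≤ v := by exact_mod_cast hv
  have hKZ : (R : ℤ) * v = ((v : ℤ) + 1) ^ M - 1 := by
    have : ((R * v : ℕ) : ℤ) = (((v + 1) ^ M - 1 : ℕ) : ℤ) := by rw [hK]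
    push_cast [h1N] at this
    exact this
  have hEZ : (E : ℤ) * (v : ℤ) ^ 2 = ((v : ℤ) + 1) ^ (M + 1) - 1 := by
    have : ((E * v ^ 2 : ℕ) : ℤ) = (((v + 1) ^ (M + 1) - 1 : ℕ) : ℤ) := by rw [hE]
    push_cast [h1N'] at this
    exact this
  set A : ℤ := (q : ℤ) ^ n + 1 with hA
  have hA0 : 0 < A := by rw [hA]; positivity
  have hRA : (R : ℤ) * w = A := h.hRZ
  set U : ℤ := ((v : ℤ) + 1) ^ M - 1 with hU
  have hN4 : ((v : ℤ) + 1) ^ 4 ≤ ((v : ℤ) + 1) ^ M := pow_le_pow_right₀ (by omega) hM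
  have hx4 : (v : ℤ) ^ 4 + 4 * (v : ℤ) ^ 3 + 6 * (v : ℤ) ^ 2 + 4 * v ≤ U := by
    have : ((v : ℤ) + 1) ^ 4 = (v : ℤ) ^ 4 + 4 * (v : ℤ) ^ 3 + 6 * (v : ℤ) ^ 2 + 4 * v + 1 := by ring
    linarith
  have hv4 : (0 : ℤ) < (v : ℤ) ^ 4 := by positivity
  have hv3 : (0 : ℤ) < (v : ℤ) ^ 3 := by positivity
  have hv2 : (0 : ℤ) < (v : ℤ) ^ 2 := by positivity
  have hU0 : 0 < U := by linarith
  have hKA : (v : ℤ) * A = w * U := by rw [← hRA, ← hKZ]; ring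
  set X : ℤ := w * ((E : ℤ) - R) with hX
  have e1 : (v : ℤ) ^ 2 * ((E : ℤ) - R) = U + v := by
    have h2 : (v : ℤ) ^ 2 * ((E : ℤ) - R) = (E : ℤ) * (v : ℤ) ^ 2 - v * (R * v) := by ring
    rw [h2, hEZ, hKZ, hU]
    ring
  have e2 : v * X * U = A * (U + v) := by
    have h2 : (v : ℤ) * (v * X * U) = v * (A * (U + v)) := by
      rw [hX]
      calc (v : ℤ) * (v * (w * ((E : ℤ) - R)) * U) = (w * U) * ((v : ℤ) ^ 2 * ((E : ℤ) - R)) := by ring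
        _ = (v * A) * (U + v) := by rw [e1, hKA]
        _ = _ := by ring
    exact mul_left_cancel₀ (by omega) h2
  have hXpos : 0 < X := by
    have h2 : 0 < A * (U + v) := by positivity
    rw [← e2] at h2
    have h3 : 0 < v * X := (mul_pos_iff_of_pos_right hU0).1 h2
    exact (mul_pos_iff_of_pos_left (by omega)).1 h3
  obtain ⟨a, -, ha1, ha2, hcase⟩ := hS.pos_cases h.num hXpos.le
  rcases hcase with hc | ⟨-, hqp, hc⟩
  · have hQ := zpow_pos h.num (n - a)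
    have hQX : (q : ℤ) ^ (n - a) * X = A - ((q : ℤ) ^ (n - a) + 1) ^ 2 := by
      have h2 : (q : ℤ) ^ (n - a) * (q : ℤ) ^ a = (q : ℤ) ^ n := by
        rw [← pow_add]; congr 1; omega
      rw [hc, hA, ← h2]
      ring
    refine coreM_I (v := v) (Q := (q : ℤ) ^ (n - a)) (A := A) (U := U) (w := w) (by omega) hQ hA0 hU0 ?_
      (by exact_mod_cast hw) hKA (by linarith) (by linarith)
    rw [← hQX]
    calc (v : ℤ) * U * ((q : ℤ) ^ (n - a) * X) = (q : ℤ) ^ (n - a) * (v * X * U) := by ring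
      _ = _ := by rw [e2]; ring
  · have hQX : (q : ℤ) * X = A + ((q : ℤ) - 1) * (q + 1) ^ 2 := by
      have h2 : (q : ℤ) * (q : ℤ) ^ (n - 1) = (q : ℤ) ^ n := by
        rw [← pow_succ']; congr 1; omega
      rw [hc, hA, ← h2]
      ring
    have hq4 : (q : ℤ) ^ 4 < A := by
      have h2 := h.A_big
      have h3 : (0 : ℤ) < (q : ℤ) ^ 4 := by positivity
      linarith
    have hw2 : (2 : ℤ) * w ≤ ((q : ℤ) + 1) ^ 2 := by exact_mod_cast h.w2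
    have hwlt : (w : ℤ) < ((q : ℤ) - 1) * (q + 1) ^ 2 := by
      have h3 : (3 : ℤ) ≤ q := by exact_mod_cast hq3
      have h4 : 2 * ((q : ℤ) + 1) ^ 2 ≤ ((q : ℤ) - 1) * (q + 1) ^ 2 :=
        mul_le_mul_of_nonneg_right (by omega) (by positivity)
      have h5 : 0 < ((q : ℤ) + 1) ^ 2 := by positivity
      linarith
    refine coreM_P (v := v) (q := q) (A := A) (U := U) (w := w) (by omega) (by omega) hA0 hU0 ?_ hq4 hKA hwlt
      (by linarith)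
    rw [← hQX]
    calc (v : ℤ) * U * ((q : ℤ) * X) = (q : ℤ) * (v * X * U) := by ring
      _ = _ := by rw [e2]; ring

end Ctx

end Cfsg.Agent.H437.Win
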