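import Cfsg.Agent.H437.Win.Fam
import Cfsg.Agent.H360.Iso.Cls
import Cfsg.Agent.S0243

/-!
# Elimination of `PSL_m(u)`, `m ≥ 3`
-/

set_option autoImplicit false

namespace Cfsg.Agent.H437.Win

open Cfsg Cfsg.Agent.H360.Iso Matrix

variable {p q n R w : ℕ}

theorem Num.p_dvd (h : Num p q n) : p ∣ q := by
  obtain ⟨f, hf, rfl⟩ := h.hq
  exact dvd_pow_self p (by omega)

theorem Num.ne_pow (h : Num p q n) {u : ℕ} (hpu : ¬ p ∣ u) : ∀ b, 1 ≤ b → u ≠ q ^ b := by
  rintro b hb rfl
  exact hpu (dvd_pow h.p_dvd (by omega))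

theorem Num.q_ne_three (h : Num p q n) {u k : ℕ} (hpu : ¬ p ∣ u) (hu : u = 3 ^ k) (hk : 1 ≤ k) : q ≠ 3 := by
  rintro rfl
  have h1 := h.p_dvd
  rw [Nat.dvd_prime Nat.prime_three] at h1
  rcases h1 with h1 | h1
  · exact h.hp.one_lt.ne' h1
  · apply hpu
    rw [h1, hu]
    exact dvd_pow_self 3 (by omega)

theorem two_primes {u a b : ℕ} (hu : IsPrimePow u) (ha : a.Prime) (hb : b.Prime) (hab : a ≠ b) (h1 : a ∣ u) (h2 : b ∣ u) :
    False := by
  obtain ⟨r, k, hr, hk, rfl⟩ := hu
  have hr' : r.Prime := Nat.prime_iff.2 hr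
  have h3 := (Nat.prime_dvd_prime_iff_eq ha hr').1 (ha.dvd_of_dvd_pow h1)
  have h4 := (Nat.prime_dvd_prime_iff_eq hb hr').1 (hb.dvd_of_dvd_pow h2)
  exact hab (h3.trans h4.symm)

namespace UWin

/-- primes of the order when `q = 3` -/
theorem not_prime {T : Type*} [Group T] (h : UWin T p q n R w) (hq : q = 3) {s : ℕ} (hs : s.Prime)
    (hd : s ∣ Nat.card T) (h3 : s ≠ 3) (hk : ∀ k, 1 ≤ k → k ≤ n → ¬ (s : ℤ) ∣ (-3) ^ k - 1) : False := by
  rcases h.prm s hs hd with h1 | ⟨k, hk1, hkn, h1⟩
  · apply h3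
    have h4 := h.ctx.num.p_dvd
    rw [hq, ← h1, Nat.dvd_prime Nat.prime_three] at h4
    rcases h4 with h4 | h4
    · exact absurd h4 hs.one_lt.ne'
    · exact h4
  · rw [hq] at h1
    exact hk k hk1 hkn (by exact_mod_cast h1)

theorem n_odd_half {T : Type*} [Group T] (h : UWin T p q n R w) {e : ℕ} (he : n + 1 = 2 * e) :
    (n = 7 ∧ e = 4) ∨ (n = 11 ∧ e = 6) ∨ (n = 13 ∧ e = 7) ∨ (n = 17 ∧ e = 9) ∨ (n = 19 ∧ e = 10) ∨
      (n = 23 ∧ e = 12) := by
  have h1 := h.hn
  simp only [Finset.mem_insert, Finset.mem_singleton] at h1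
  omega

/-- `|PSL_3(1093)|` -/
theorem dvd_psl {F : Type} [Field F] [Fintype F] (hu : Nat.card F = 1093) :
    1093 ∣ Nat.card (ProjectiveSpecialLinearGroup (Fin 3) F) := by
  have h1 := Cfsg.Agent.S0243.result (F := F) (q := 1093) (by rw [← Nat.card_eq_fintype_card, hu]) 3 (by norm_num)
  have h2 : 1093 ∣ ∏ i : Fin 3, (1093 ^ 3 - 1093 ^ (i : ℕ)) := by
    rw [Fin.prod_univ_three]
    norm_num
  rw [← h1] at h2
  have hp : Nat.Prime 1093 := by norm_num
  rcases (hp.dvd_mul).1 h2 with h3 | h3
  · exfalso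
    revert h3
    norm_num
  · rcases (hp.dvd_mul).1 h3 with h4 | h4
    · exfalso
      revert h4
      norm_num
    · exact h4

/-- **`PSL_m(u)`, `m ≥ 3`.** -/
theorem not_psl {F : Type} [Field F] [Fintype F] {m : ℕ} (hm : 3 ≤ m) (hpu : ¬ p ∣ Nat.card F)
    (h : UWin (ProjectiveSpecialLinearGroup (Fin m) F) p q n R w) : False := by
  have hu : 2 ≤ Nat.card F := Finite.one_lt_card
  have hpp : IsPrimePow (Nat.card F) := by
    rw [Nat.card_eq_fintype_card]; exact FiniteField.isPrimePow_card F
  have hR5 := h.ctx.R547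
  have hR0 : 0 < R := by omega
  rcases psl_row hm h.iso with ⟨h1, x, hx⟩ | ⟨h0, h1, x, hx⟩
  · -- first row
    have hW := h.win x
    have hxpos := orderOf_pos x
    generalize orderOf x = E at hx hW hxpos
    obtain ⟨u, hud⟩ : ∃ u, u = Nat.card F := ⟨_, rfl⟩
    rw [← hud] at h1 hx hu hpp hpu
    obtain ⟨v, hv⟩ : ∃ v, u = v + 1 := ⟨u - 1, by omega⟩
    obtain ⟨M, hM⟩ : ∃ M, m = M + 1 := ⟨m - 1, by omega⟩
    have hg0 : 0 < Nat.gcd m (u - 1) := Nat.gcd_pos_of_pos_left _ (by omega)
    have hgv : Nat.gcd m (u - 1) ≤ u - 1 := Nat.gcd_le_right _ (by omega)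
    have hgm : Nat.gcd m (u - 1) ≤ m := Nat.gcd_le_left _ (by omega)
    have hg3 : m = 3 → Nat.gcd m (u - 1) = 1 ∨ Nat.gcd m (u - 1) = 3 := fun h => by
      rw [h]; exact (Nat.dvd_prime Nat.prime_three).1 (Nat.gcd_dvd_left _ _)
    generalize hg : Nat.gcd m (u - 1) = g at h1 hx hg0 hgv hgm hg3
    rcases Nat.lt_or_ge u 3 with hu2 | hu3
    · -- `u = 2`
      have hu2' : u = 2 := by omega
      have hg1 : g = 1 := by omega
      rw [hu2', hg1] at h1
      norm_num at h1
      rcases Nat.even_or_odd m with hme | hmo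
      · -- `3 ∣ R`
        apply h.iso.not_three_dvd
        rw [h1]
        obtain ⟨k, hk⟩ := hme
        rw [hk, ← two_mul, pow_mul]
        have := Nat.sub_dvd_pow_sub_pow (2 ^ 2) 1 k
        rw [one_pow] at this
        exact this
      · obtain ⟨k, rfl⟩ : ∃ k, m = 2 + k := ⟨m - 2, by omega⟩
        have hk : Odd k := by
          rcases Nat.even_or_odd k with h4 | h4
          · exact absurd hmo (Nat.not_odd_iff_even.2 ((by decide : Even 2).add h4))
          · exact h4
        have hE := exists_two (F := F) (by rw [← hud, hu2']) (a := 2) (b := k) (by norm_num) (by omega) (by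
          norm_num
          rw [Nat.Prime.coprime_iff_not_dvd Nat.prime_three]
          intro hd
          obtain ⟨j, rfl⟩ := hk
          have h5 : 2 ^ (2 * j + 1) % 3 = 2 := by
            rw [pow_succ, pow_mul, Nat.mul_mod, Nat.pow_mod]
            norm_num
          generalize 2 ^ (2 * j + 1) = z at hd h5
          omega)
        have hWE := h.wd hE
        have e1 : 2 ^ (2 + k) = 4 * 2 ^ k := by rw [pow_add]; norm_num
        rw [e1] at h1
        norm_num at hWE
        generalize 2 ^ k = z at h1 hWE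
        have hS := h.ctx.spec (E := 3 * (z - 1)) (by omega) hWE (by omega) (by omega)
        have := h.ctx.neg_bound hS (by omega)
        omega
    · have hm1 : 1 ≤ u ^ m := Nat.one_le_pow _ _ (by omega)
      have hm2 : 1 ≤ u ^ (m - 1) := Nat.one_le_pow _ _ (by omega)
      -- `K = g (u - 1)`
      have hK : R * (g * (u - 1)) = u ^ m - 1 := by rw [← h1]; ring
      have hKE : (g * (u - 1)) * E = (u ^ (m - 1) - 1) * (u - 1) := by rw [← hx]; ring
      have hmul : u * u ^ (m - 1) = u ^ m := by rw [← pow_succ']; congr 1; omega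
      have hgu0 : 0 < g * (u - 1) := Nat.mul_pos hg0 (by omega)
      -- comparison of `E` and `R`
      have hlt : E < R := by
        apply lt_of_mul_lt_mul_left _ (Nat.zero_le (g * (u - 1)))
        rw [hKE, mul_comm (g * (u - 1)) R, hK]
        rw [← hmul]
        have h3 : (u ^ (m - 1) - 1) * (u - 1) ≤ u ^ (m - 1) * (u - 1) := Nat.mul_le_mul_right _ (by omega)
        have h4 : u ^ (m - 1) * (u - 1) = u * u ^ (m - 1) - u ^ (m - 1) := by
          rw [Nat.mul_sub, mul_one, mul_comm]
        have h5 : u ^ 1 ≤ u ^ (m - 1) := Nat.pow_le_pow_right (by omega) (by omega)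
        have h6 : u ^ (m - 1) ≤ u * u ^ (m - 1) := Nat.le_mul_of_pos_left _ (by omega)
        rw [pow_one] at h5
        omega
      have hS : Spec p q n (w * ((E : ℤ) - R)) := by
        rcases Nat.eq_or_lt_of_le hu3 with hu3 | hu4
        · -- `u = 3`
          have hq3 : q ≠ 3 := h.ctx.num.q_ne_three (u := u) (k := 1) hpu (by rw [pow_one]; exact hu3.symm) le_rfl
          refine h.ctx.spec' hxpos hW hq3 ?_ hlt.ne
          rw [← hu3] at hK hKE hmul
          have h7 : 3 ^ (m - 1) ≥ 3 ^ 3 := by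
            apply Nat.pow_le_pow_right (by norm_num)
            by_contra hcon
            have hm3 : m = 3 := by omega
            rw [hm3] at hK
            norm_num at hK
            have : R ≤ 26 := by
              rw [← hK]
              exact Nat.le_mul_of_pos_right _ (by omega)
            omega
          have h8 : R * (g * 2) = 3 ^ m - 1 := by rw [← hK]
          have h9 : g * 2 * E = (3 ^ (m - 1) - 1) * 2 := by rw [← hKE]
          apply lt_of_mul_lt_mul_left _ (Nat.zero_le (g * 2))
          have e1 : g * 2 * (63 * R) = 63 * (3 ^ m - 1) := by rw [← h8]; ring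
          have e2 : g * 2 * (100 * E) = 200 * (3 ^ (m - 1) - 1) := by
            have : g * 2 * (100 * E) = 100 * (g * 2 * E) := by ring
            rw [this, h9]; ring
          rw [e1, e2, ← hmul]
          norm_num at h7
          omega
        · refine h.ctx.spec hxpos hW ?_ hlt.ne
          apply lt_of_mul_lt_mul_left _ (Nat.zero_le (g * (u - 1)))
          have e1 : g * (u - 1) * (7 * R) = 7 * (u ^ m - 1) := by rw [← hK]; ring
          have e2 : g * (u - 1) * (10 * E) = 10 * ((u ^ (m - 1) - 1) * (u - 1)) := by rw [← hKE]; ring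
          rw [e1, e2, ← hmul]
          have h7 : 16 ≤ u ^ (m - 1) := by
            calc 16 = 4 ^ 2 := by norm_num
              _ ≤ u ^ 2 := Nat.pow_le_pow_left (by omega) 2
              _ ≤ _ := Nat.pow_le_pow_right (by omega) (by omega)
          obtain ⟨z, hz⟩ : ∃ z, u ^ (m - 1) = z + 16 := ⟨u ^ (m - 1) - 16, by omega⟩
          obtain ⟨y, hy⟩ : ∃ y, u = y + 4 := ⟨u - 4, by omega⟩
          rw [hz, hy]
          have e3 : 7 * ((y + 4) * (z + 16) - 1) + 7 = 7 * ((y + 4) * (z + 16)) := by
            have : 1 ≤ (y + 4) * (z + 16) := Nat.mul_pos (by omega) (by omega)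
            omega
          have e4 : z + 16 - 1 = z + 15 := by omega
          have e5 : y + 4 - 1 = y + 3 := by omega
          rw [e4, e5]
          nlinarith
      rcases Nat.eq_or_lt_of_le hm with hm3 | hm4
      · -- `m = 3`
        subst hm3
        have hgg := hg3 rfl
        have hgZ : (g : ℤ) * (R : ℤ) = (u : ℤ) ^ 2 + u + 1 := by
          have h3 : (R * (g * v) : ℕ) = (v ^ 2 + 3 * v + 3) * v := by
            have : R * (g * v) = R * (g * (u - 1)) := by rw [hv, Nat.add_sub_cancel]
            rw [this, hK, hv]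
            have : (v + 1) ^ 3 = (v ^ 2 + 3 * v + 3) * v + 1 := by ring
            omega
          have h4 : R * g = v ^ 2 + 3 * v + 3 := by
            have hv0 : 0 < v := by omega
            apply Nat.eq_of_mul_eq_mul_right hv0
            rw [← h3]
            ring
          have h5 : ((R * g : ℕ) : ℤ) = ((v ^ 2 + 3 * v + 3 : ℕ) : ℤ) := by rw [h4]
          push_cast at h5
          rw [hv]
          push_cast
          linarith
        have hEZ : (E : ℤ) * g = (u : ℤ) ^ 2 - 1 := by
          have h3 : ((E * g : ℕ) : ℤ) = ((u ^ 2 - 1 : ℕ) : ℤ) := by rw [hx]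
          rw [Nat.cast_sub (Nat.one_le_pow _ _ (by omega))] at h3
          push_cast at h3
          exact h3
        obtain ⟨hq3, e, heo, hne, hue⟩ := h.ctx.lThree hgg (by rw [mul_comm]; exact hgZ) hEZ hS
        rcases h.n_odd_half hne with ⟨hn, he⟩ | ⟨hn, he⟩ | ⟨hn, he⟩ | ⟨hn, he⟩ | ⟨hn, he⟩ | ⟨hn, he⟩ <;>
          rw [he] at heo hue
        · exact absurd heo (by decide)
        · exact absurd heo (by decide)
        · -- `u = 1093`
          have hu' : u = 1093 := by norm_num at hue; omega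
          refine h.not_prime hq3 (s := 1093) (by norm_num) (dvd_psl (by rw [← hud, hu'])) (by norm_num) ?_
          intro k hk1 hk2
          rw [hn] at hk2
          interval_cases k <;> norm_num
        · -- `u = 9841`
          have hu' : u = 9841 := by norm_num at hue; omega
          rw [hu'] at hpp
          exact two_primes hpp (a := 13) (b := 757) (by norm_num) (by norm_num) (by norm_num) (by norm_num)
            (by norm_num)
        · exact absurd heo (by decide)
        · exact absurd heo (by decide)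
      · refine h.ctx.lType (by omega) hK hKE hS ?_
        rcases Nat.eq_or_lt_of_le (show 4 ≤ m by omega) with hm4 | hm5
        · right
          refine ⟨by omega, Nat.mul_le_mul_right _ (by omega)⟩
        · left
          refine ⟨by omega, ?_⟩
          rw [pow_two]
          exact Nat.mul_le_mul_right _ hgv
  · -- second row
    have hW := h.win x
    have hxpos := orderOf_pos x
    generalize orderOf x = E at hx hW hxpos
    obtain ⟨u, hud⟩ : ∃ u, u = Nat.card F := ⟨_, rfl⟩
    rw [← hud] at h0 h1 hx hu hpp hpu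
    obtain ⟨v, rfl⟩ : ∃ v, u = v + 1 := ⟨u - 1, by omega⟩
    rw [Nat.add_sub_cancel] at h0 h1 hx
    obtain ⟨M, rfl⟩ : ∃ M, m = M + 1 := ⟨m - 1, by omega⟩
    rw [Nat.add_sub_cancel] at h1
    have hv0 : 0 < v := by omega
    have hvm := Nat.le_of_dvd (by omega) h0
    have hM4 : 4 ≤ M := by
      by_contra hcon
      have hM3 : M ≤ 3 := by omega
      have hv4 : v ≤ 4 := by omega
      have h3 : (v + 1) ^ M ≤ 5 ^ 3 := by
        calc (v + 1) ^ M ≤ 5 ^ M := Nat.pow_le_pow_left (by omega) M
          _ ≤ 5 ^ 3 := Nat.pow_le_pow_right (by norm_num) hM3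
      have h4 : R ≤ R * v := Nat.le_mul_of_pos_right _ hv0
      omega
    have h1N : 1 ≤ (v + 1) ^ M := Nat.one_le_pow _ _ (by omega)
    have hlt : R < E := by
      apply lt_of_mul_lt_mul_right _ (Nat.zero_le (v ^ 2))
      rw [hx]
      have e1 : R * v ^ 2 = ((v + 1) ^ M - 1) * v := by rw [← h1]; ring
      rw [e1, pow_succ]
      have h3 : ((v + 1) ^ M - 1) * v ≤ (v + 1) ^ M * v := Nat.mul_le_mul_right _ (by omega)
      have h4 : (v + 1) ^ M * (v + 1) = (v + 1) ^ M * v + (v + 1) ^ M := by ring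
      have h5 : 2 ^ 4 ≤ (v + 1) ^ M := by
        calc 2 ^ 4 ≤ (v + 1) ^ 4 := Nat.pow_le_pow_left (by omega) 4
          _ ≤ _ := Nat.pow_le_pow_right (by omega) hM4
      omega
    have hS := h.ctx.spec hxpos hW (by omega) hlt.ne'
    exact h.ctx.mType hv0 h1 hx hS hM4

end UWin

end Cfsg.Agent.H437.Win
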