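import Cfsg.Agent.H437.Win.FamL

/-!
# Elimination of `PSp_{2m}(u)`, `PΩ_{2m+1}(u)`, `PΩ⁺_{2m}(u)`
-/

set_option autoImplicit false

namespace Cfsg.Agent.H437.Win

open Cfsg Cfsg.Agent.H182.Orth Cfsg.Agent.H182.Sign Cfsg.Agent.H403.Classify Cfsg.Agent.H360.Iso
open Cfsg.Agent.LieClassical.OrthForms

variable {p q n R w : ℕ}

namespace UWin

/-- twin orders -/
theorem not_twin {T : Type*} [Group T] [Finite T] (h : UWin T p q n R w) {A B : ℕ} (hAB : A + 1 = B ∨ A + 2 = B)
    (ht : Twin T R A B) : False := by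
  obtain ⟨h1, hA, hB⟩ := ht
  have hR := h.ctx.R547
  rcases h1 with h1 | h1
  · exact h.ctx.near (E := B) (by omega) (h.wd hB) (by omega) (by omega) (by omega)
  · exact h.ctx.near (E := A) (by omega) (h.wd hA) (by omega) (by omega) (by omega)

theorem not_psp {F : Type} [Field F] [Fintype F] {m : ℕ} (hm : 2 ≤ m) (h : UWin (PSp m F) p q n R w) : False := by
  have hfin : Finite (PSp m F) := inferInstance
  obtain ⟨A, B, hAB, ht⟩ := psp hm h.iso
  exact h.not_twin hAB ht

theorem not_omegaOdd {F : Type} [Field F] [Fintype F] {m : ℕ} (hm : 3 ≤ m) (ho : Odd (Fintype.card F))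
    (h : UWin (POmega F (quadFormOdd m F)) p q n R w) : False := by
  have hfin : Finite (POmega F (quadFormOdd m F)) := inferInstance
  obtain ⟨A, B, hAB, ht⟩ := omegaOdd (by rwa [Nat.card_eq_fintype_card]) hm h.iso
  exact h.not_twin hAB ht

/-- **`PΩ⁺_{2m}(u)`.** -/
theorem not_plus {F : Type} [Field F] [Fintype F] {m : ℕ} (hm : 4 ≤ m) (hpu : ¬ p ∣ Nat.card F)
    (h : UWin (POmega F (quadFormPlus m F)) p q n R w) : False := by
  have hcard := Cfsg.Agent.S0293.result (F := F) rfl m hm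
  simp only [← Nat.card_eq_fintype_card] at hcard
  have h' := h
  rw [← coe_plusForm] at hcard h'
  have hu : 2 ≤ Nat.card F := Finite.one_lt_card
  have hR5 := h.ctx.R547
  have hrow := plus_row (sg_plusForm (F := F) m) hm hcard h'.iso
  obtain ⟨u, hud⟩ : ∃ u, u = Nat.card F := ⟨_, rfl⟩
  rw [← hud] at hrow hu hpu
  have hne := h.ctx.num.ne_pow hpu
  have hmul : u * u ^ (m - 1) = u ^ m := by rw [← pow_succ']; congr 1; omega
  rcases hrow with ⟨hmo, h0, h1, x, hx⟩ | ⟨hmo, huo, h1, x, hx⟩ | ⟨hme, h0, h1, x, hx⟩ | ⟨hme, h0, h1, x, hx⟩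
  · have hup := h'.upper ⟨x, hx⟩
    have e1 : 2 ^ m = 2 * 2 ^ (m - 1) := by rw [← pow_succ']; congr 1; omega
    rw [e1] at h1
    omega
  · have hW := h'.win x
    have hxpos := orderOf_pos x
    have hup := h'.ctx.upper hxpos hW
    generalize orderOf x = E at hx hW hxpos hup
    have hcase : u = 3 ∨ u = 5 ∨ 7 ≤ u := by
      obtain ⟨k, hk⟩ := huo
      omega
    have hone : 1 ≤ u ^ (m - 1) := Nat.one_le_pow _ _ (by omega)
    rcases hcase with hu3 | hu5 | hu7
    · -- `u = 3`
      rw [hu3] at h1 hx hmul hone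
      have hq3 : q ≠ 3 := h.ctx.num.q_ne_three (u := u) (k := 1) hpu (by rw [pow_one]; exact hu3) le_rfl
      norm_num at h1 hx
      rw [← hmul] at h1
      have hcR : 3 * E = 2 * R + 4 := by omega
      have hS := h.ctx.spec' hxpos hW hq3 (by omega) (by omega)
      have := h.ctx.neg_bound5 hq3 hS (by omega)
      omega
    · -- `u = 5`
      rw [hu5] at h1 hx hmul hone
      norm_num at h1 hx
      rw [← hmul] at h1
      have hcR : 5 * ((E : ℤ) - R) = R + 9 := by omega
      have hS := h.ctx.spec hxpos hW (by omega) (by omega)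
      exact h.ctx.dFive hcR hS (fun b hb => by rw [← hu5]; exact hne b hb)
    · -- `7 ≤ u`
      obtain ⟨z, hz⟩ : ∃ z, u ^ (m - 1) = z + 1 := ⟨u ^ (m - 1) - 1, by omega⟩
      rw [hz] at hx hmul
      rw [← hmul] at h1
      obtain ⟨y, rfl⟩ : ∃ y, u = y + 7 := ⟨u - 7, by omega⟩
      have e1 : y + 7 - 1 = y + 6 := by omega
      have e2 : (y + 7) * (z + 1) - 1 = (y + 7) * z + (y + 6) := by
        have : (y + 7) * (z + 1) = (y + 7) * z + (y + 6) + 1 := by ring
        omega
      rw [e1, e2] at h1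
      have h3 : 40 * (E * (y + 6)) ≤ 56 * (R * (y + 6)) := by nlinarith
      have h4 : 40 * (E * (y + 6)) = 10 * ((z + 1 + 1) * (y + 7 + 1)) * (y + 6) := by rw [← hx]; ring
      rw [h4, h1] at h3
      ring_nf at h3
      nlinarith [Nat.zero_le (y * z), Nat.zero_le (y ^ 2 * z), Nat.zero_le (y ^ 2), Nat.zero_le y, Nat.zero_le z]
  · have hup := h'.upper ⟨x, hx⟩
    have e1 : 2 ^ m = 2 * 2 ^ (m - 1) := by rw [← pow_succ']; congr 1; omega
    rw [e1] at hup
    omega
  · have hW := h'.win x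
    have hxpos := orderOf_pos x
    generalize orderOf x = E at hx hW hxpos
    exact h.ctx.near hxpos hW (by omega) (by omega) (by omega)

end UWin

end Cfsg.Agent.H437.Win
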