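import Cfsg.Agent.H437.Win.FamP

/-!
# Elimination of `PSL_2(u)`
-/

set_option autoImplicit false

namespace Cfsg.Agent.H437.Win

open Cfsg Cfsg.Agent.H360.Iso

variable {p q n R w : ℕ}

/-- half of `R` is not in the window -/
theorem Ctx.half (h : Ctx p q n R w) (hg : 2 * (Nat.gcd n (q + 1) * (q + 1) ^ 2) < q ^ 3) {E : ℕ}
    (hE : 2 * E = R + 1) (hW : Wd p q n E) : False := by
  have hR := h.R547
  rcases spec2 h.num (by omega) hW (by rw [← h.hw]; exact h.hR) hg (by omega) with h1 | h1 | h1
  · omega
  · rw [← h.hw, h.X_eq] at h1
    have := h.neg_bound h1 (by omega)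
    omega
  · rw [← h.hw, h.X_eq] at h1
    have h2 := h1.not_tiny h.num
    have h3 : ((2 * E : ℕ) : ℤ) - R = 1 := by
      rw [hE]
      push_cast
      ring
    rw [h3, mul_one, abs_of_nonneg (by positivity)] at h2
    have h4 : (2 : ℤ) * w ≤ ((q : ℤ) + 1) ^ 2 := by exact_mod_cast h.w2
    have h5 := h.wpos
    linarith

theorem Ctx.q_pp (h : Ctx p q n R w) : IsPrimePow q := by
  obtain ⟨f, hf, rfl⟩ := h.num.hq
  exact (Nat.prime_iff.1 h.num.hp).isPrimePow.pow (by omega)

namespace UWin

theorem not_psl2 {F : Type} [Field F] [Fintype F] (h4 : 4 ≤ Fintype.card F)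
    (h : UWin (Matrix.ProjectiveSpecialLinearGroup (Fin 2) F) p q n R w) : False := by
  obtain ⟨r, hp⟩ := CharP.exists F
  have hpf : Fact r.Prime := ⟨CharP.char_is_prime F r⟩
  obtain ⟨hA, hB, hk⟩ := psl2_row r h4 h.iso
  have hR5 := h.ctx.R547
  set u := Fintype.card F with hud
  obtain ⟨t, hpr, ht⟩ := FiniteField.card F r
  rw [← hud] at ht
  have ht0 := t.pos
  rcases Nat.even_or_odd u with he | ho
  · have hg : Nat.gcd 2 (u - 1) = 1 := Nat.coprime_two_left.2 (Nat.Even.sub_odd (by omega) he odd_one)
    rw [hg, Nat.div_one, Nat.div_one] at hk
    rw [hg, Nat.div_one] at hA hB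
    rcases hk with h1 | h1 | h1
    · exact h.ctx.near (E := u + 1) (by omega) (h.wd hB) (by omega) (by omega) (by omega)
    · exact h.ctx.near (E := u - 1) (by omega) (h.wd hA) (by omega) (by omega) (by omega)
    · have h2 : r = 2 := by
        have h3 : 2 ∣ r ^ (t : ℕ) := ht ▸ even_iff_two_dvd.1 he
        exact ((Nat.prime_dvd_prime_iff_eq Nat.prime_two hpr).1 (Nat.prime_two.dvd_of_dvd_pow h3)).symm
      omega
  · obtain ⟨a, ha⟩ := ho
    have hg : Nat.gcd 2 (u - 1) = 2 := Nat.gcd_eq_left ⟨a, by omega⟩
    rw [hg] at hk hA hB
    have e1 : (u - 1) / 2 = a := by omega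
    have e2 : (u + 1) / 2 = a + 1 := by omega
    rw [e1] at hA hk
    rw [e2] at hB hk
    rcases hk with h1 | h1 | h1
    · exact h.ctx.near (E := a + 1) (by omega) (h.wd hB) (by omega) (by omega) (by omega)
    · exact h.ctx.near (E := a) (by omega) (h.wd hA) (by omega) (by omega) (by omega)
    · rcases Nat.lt_or_ge 1 (t : ℕ) with h2 | h2
      · have hfin : Finite (Matrix.ProjectiveSpecialLinearGroup (Fin 2) F) := inferInstance
        have hup := h.upper hB
        have h3 : R ^ 2 ≤ u := by
          rw [ht, h1]
          exact Nat.pow_le_pow_right hpr.pos h2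
        have h6 : 547 * R ≤ R ^ 2 := by
          rw [pow_two]; exact Nat.mul_le_mul_right _ hR5
        omega
      · have h3 : (t : ℕ) = 1 := by omega
        rw [h3, pow_one, ← h1] at ht
        have hRp : R.Prime := by rw [h1]; exact hpr
        have hW := h.wd hB
        have hBd : a + 1 ∣ Nat.card (Matrix.ProjectiveSpecialLinearGroup (Fin 2) F) := by
          obtain ⟨x, hx⟩ := hB
          rw [← hx]
          exact orderOf_dvd_natCard x
        have hE : 2 * (a + 1) = R + 1 := by omega
        have hRR := h.ctx.hR
        rcases h.ctx.gen_or with hg | ⟨hq3, hw⟩ | ⟨hqn, hw⟩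
        · exact h.ctx.half hg hE hW
        · -- `q = 3`
          have hn := h.hn
          simp only [Finset.mem_insert, Finset.mem_singleton] at hn
          rw [hw, hq3] at hRR
          rcases hn with hn | hn | hn | hn | hn | hn <;> rw [hn] at hRR <;> norm_num at hRR
          · have hR' : R = 547 := by omega
            refine h.not_prime hq3 (s := 137) (by norm_num) (dvd_trans ⟨2, by omega⟩ hBd) (by norm_num) ?_
            intro k hk1 hk2
            rw [hn] at hk2
            interval_cases k <;> norm_num
          · have hR' : R = 44287 := by omega
            rw [hR'] at hRp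
            revert hRp
            norm_num
          · have hR' : R = 398581 := by omega
            refine h.not_prime hq3 (s := 17) (by norm_num) (dvd_trans ⟨11723, by omega⟩ hBd) (by norm_num) ?_
            intro k hk1 hk2
            rw [hn] at hk2
            interval_cases k <;> norm_num
          · have hR' : R = 32285041 := by omega
            rw [hR'] at hRp
            revert hRp
            norm_num
          · have hR' : R = 290565367 := by omega
            rw [hR'] at hRp
            revert hRp
            norm_num
          · have hR' : R = 23535794707 := by omega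
            refine h.not_prime hq3 (s := 79) (by norm_num) (dvd_trans ⟨148960726, by omega⟩ hBd) (by norm_num) ?_
            intro k hk1 hk2
            rw [hn] at hk2
            interval_cases k <;> norm_num
        · have hn := h.hn
          have hpp := h.ctx.q_pp
          simp only [Finset.mem_insert, Finset.mem_singleton] at hn
          rcases hn with hn | hn | hn | hn | hn | hn
          · have hq' : q = 13 := by omega
            rw [hw, hq', hn] at hRR
            norm_num at hRR
            have hR' : R = 640291 := by omega
            rw [hR'] at hRp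
            revert hRp
            norm_num
          · have hq' : q = 21 := by omega
            rw [hq'] at hpp
            exact two_primes hpp (a := 3) (b := 7) (by norm_num) (by norm_num) (by norm_num) (by norm_num) (by norm_num)
          · have hq' : q = 25 := by omega
            rw [hw, hq', hn] at hRR
            norm_num at hRR
            have hR' : R = 4408627572144277 := by omega
            rw [hR'] at hRp
            revert hRp
            norm_num
          · have hq' : q = 33 := by omega
            rw [hq'] at hpp
            exact two_primes hpp (a := 3) (b := 11) (by norm_num) (by norm_num) (by norm_num) (by norm_num) (by norm_num)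
          · have hq' : q = 37 := by omega
            rw [hw, hq', hn] at hRR
            norm_num at hRR
            have hR' : R = 865556774225543113224760567 := by omega
            rw [hR'] at hRp
            revert hRp
            norm_num
          · have hq' : q = 45 := by omega
            rw [hq'] at hpp
            exact two_primes hpp (a := 3) (b := 5) (by norm_num) (by norm_num) (by norm_num) (by norm_num) (by norm_num)

end UWin

end Cfsg.Agent.H437.Win
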