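import Cfsg.Agent.H437.Win.FamL
import Cfsg.Agent.S0280

/-!
# Elimination of `PSU_m(u)`
-/

set_option autoImplicit false

namespace Cfsg.Agent.H437.Win

open Cfsg Cfsg.Agent.H360.Iso Cfsg.Agent.H948.UProd Cfsg.Agent.H948.UMain

variable {p q n R w : ℕ}

/-- `|PSU_3(41)|` -/
theorem dvd_psu {F : Type} [Field F] [Fintype F] (hF : Fintype.card F = 41 ^ 2) :
    41 ∣ Nat.card (PSU 3 F 41) := by
  have h1 := Cfsg.Agent.S0280.result (F := F) (q := 41) hF 3 (by norm_num)
  have h2 : 41 ∣ 41 ^ (3 * (3 - 1) / 2) * ∏ i ∈ Finset.range 3, (if Even i then 41 ^ (i + 1) + 1 else 41 ^ (i + 1) - 1) :=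
    Dvd.dvd.mul_right (dvd_pow_self 41 (by norm_num)) _
  rw [← h1] at h2
  have hp : Nat.Prime 41 := by norm_num
  rcases (hp.dvd_mul).1 h2 with h3 | h3
  · exfalso
    revert h3
    norm_num
  · rcases (hp.dvd_mul).1 h3 with h4 | h4
    · exfalso
      revert h4
      norm_num
    · exact h4

namespace Ctx

/-- the numbers `R K = ph u (M - 1)`, `E = ph u (M - 2) / g` -/
theorem uType (h : Ctx p q n R w) {u M g E : ℕ} (hu : 2 ≤ u) (hpu : ¬ p ∣ u) (hM : 5 ≤ M) (hg0 : 0 < g)
    (hgu : g ≤ u + 1) (hK : R * g * (u + 1) = ph u (M - 1)) (hE : E * g = ph u (M - 2)) (hW : Wd p q n E) :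
    False := by
  have hR := h.R547
  have hne := h.num.ne_pow hpu
  have hKK : g * (u + 1) ≤ (u + 1) ^ 2 := by
    rw [pow_two]; exact Nat.mul_le_mul_right _ hgu
  have hK0 : 0 < g * (u + 1) := Nat.mul_pos hg0 (by omega)
  have hmul : u * u ^ (M - 1) = u ^ M := by rw [← pow_succ']; congr 1; omega
  have hbig : 16 ≤ u ^ (M - 1) := by
    calc 16 = 2 ^ 4 := by norm_num
      _ ≤ u ^ 4 := Nat.pow_le_pow_left hu 4
      _ ≤ _ := Nat.pow_le_pow_right (by omega) (by omega)
  have hbig' : 8 * u ≤ u ^ (M - 1) := by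
    calc 8 * u = 2 ^ 3 * u := by norm_num
      _ ≤ u ^ 3 * u := Nat.mul_le_mul_right _ (Nat.pow_le_pow_left hu 3)
      _ = u ^ 4 := by ring
      _ ≤ _ := Nat.pow_le_pow_right (by omega) (by omega)
  rcases Nat.even_or_odd M with hMe | hMo
  · have ho1 : ¬ Even (M - 1) := by
      rw [Nat.not_even_iff_odd]
      obtain ⟨k, hk⟩ := hMe
      exact ⟨k - 1, by omega⟩
    have he2 : Even (M - 2) := by
      obtain ⟨k, hk⟩ := hMe
      exact ⟨k - 1, by omega⟩
    rw [ph_odd ho1, show M - 1 + 1 = M by omega] at hK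
    rw [ph_even he2, show M - 2 + 1 = M - 1 by omega] at hE
    have h1 : R * (g * (u + 1)) = u ^ M - 1 := by rw [← hK]; ring
    have h2 : g * (u + 1) * E = (u ^ (M - 1) + 1) * (u + 1) := by rw [← hE]; ring
    have hlt : R < E := by
      apply lt_of_mul_lt_mul_left _ (Nat.zero_le (g * (u + 1)))
      rw [h2, mul_comm (g * (u + 1)) R, h1, ← hmul]
      have : (u ^ (M - 1) + 1) * (u + 1) = u * u ^ (M - 1) + u ^ (M - 1) + u + 1 := by ring
      omega
    have hS := h.spec (by omega) hW (by omega) hlt.ne'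
    have hM6 : 6 ≤ M := by
      obtain ⟨k, hk⟩ := hMe
      omega
    exact h.uEven hu hne h1 h2 hS hM6 hKK
  · have ho1 : Even (M - 1) := by
      obtain ⟨k, hk⟩ := hMo
      exact ⟨k, by omega⟩
    have he2 : ¬ Even (M - 2) := by
      rw [Nat.not_even_iff_odd]
      obtain ⟨k, hk⟩ := hMo
      exact ⟨k - 1, by omega⟩
    rw [ph_even ho1, show M - 1 + 1 = M by omega] at hK
    rw [ph_odd he2, show M - 2 + 1 = M - 1 by omega] at hE
    have h1 : R * (g * (u + 1)) = u ^ M + 1 := by rw [← hK]; ring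
    have h2 : g * (u + 1) * E = (u ^ (M - 1) - 1) * (u + 1) := by rw [← hE]; ring
    have hlt : R < E := by
      apply lt_of_mul_lt_mul_left _ (Nat.zero_le (g * (u + 1)))
      rw [h2, mul_comm (g * (u + 1)) R, h1, ← hmul]
      obtain ⟨z, hz⟩ : ∃ z, u ^ (M - 1) = z + 1 := ⟨u ^ (M - 1) - 1, by omega⟩
      rw [hz, Nat.add_sub_cancel]
      rw [hz] at hbig'
      have : z * (u + 1) = u * (z + 1) + (z + 1) - (u + 1) := by
        have : u * (z + 1) + (z + 1) = z * (u + 1) + (u + 1) := by ring
        omega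
      omega
    have hS := h.spec (by omega) hW (by omega) hlt.ne'
    exact h.uOdd hu hne h1 h2 hS (Or.inl ⟨hM, hKK⟩)

end Ctx

namespace UWin

/-- **`PSU_m(u)`** -/
theorem not_psu {F : Type} [Field F] [Fintype F] {m u : ℕ} (hF : Fintype.card F = u ^ 2) (hm : 3 ≤ m)
    (h32 : ¬ (m = 3 ∧ u = 2)) (hpu : ¬ p ∣ u) (h : UWin (PSU m F u) p q n R w) : False := by
  have hu : 2 ≤ u := LieClassical.HermBasic.two_le hF
  have hpp : IsPrimePow (u ^ 2) := by
    rw [← hF]; exact FiniteField.isPrimePow_card F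
  have hR5 := h.ctx.R547
  rcases psu_row hF hm h32 h.iso with ⟨h1, x, hx⟩ | ⟨hm4, h0, h1, h2⟩ | ⟨-, -, h1⟩ | ⟨-, -, h1⟩
  · have hW := h.win x
    have hxpos := orderOf_pos x
    generalize orderOf x = E at hx hW hxpos
    have hg0 : 0 < Nat.gcd m (u + 1) := Nat.gcd_pos_of_pos_left _ (by omega)
    have hgv : Nat.gcd m (u + 1) ≤ u + 1 := Nat.gcd_le_right _ (by omega)
    have hgm : Nat.gcd m (u + 1) ≤ m := Nat.gcd_le_left _ (by omega)
    have hg3 : m = 3 → Nat.gcd m (u + 1) = 1 ∨ Nat.gcd m (u + 1) = 3 := fun h => by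
      rw [h]; exact (Nat.dvd_prime Nat.prime_three).1 (Nat.gcd_dvd_left _ _)
    generalize hg : Nat.gcd m (u + 1) = g at h1 hx hg0 hgv hgm hg3
    rcases Nat.lt_or_ge m 5 with hm5 | hm5
    · rcases Nat.eq_or_lt_of_le hm with hm3 | hm4
      · -- `m = 3`
        subst hm3
        have hgg := hg3 rfl
        rw [ph_even (by decide)] at h1
        rw [ph_odd (by decide)] at hx
        obtain ⟨v, rfl⟩ : ∃ v, u = v + 1 := ⟨u - 1, by omega⟩
        have hRg : R * g = v ^ 2 + v + 1 := by
          apply Nat.eq_of_mul_eq_mul_right (show 0 < v + 1 + 1 by omega)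
          rw [h1]
          ring
        have hRZ : (R : ℤ) * g = ((v + 1 : ℕ) : ℤ) ^ 2 - ((v + 1 : ℕ) : ℤ) + 1 := by
          have h5 : ((R * g : ℕ) : ℤ) = ((v ^ 2 + v + 1 : ℕ) : ℤ) := by rw [hRg]
          push_cast at h5 ⊢
          linarith
        have hEZ : (E : ℤ) * g = ((v + 1 : ℕ) : ℤ) ^ 2 - 1 := by
          have h3 : ((E * g : ℕ) : ℤ) = (((v + 1) ^ (3 - 2 + 1) - 1 : ℕ) : ℤ) := by rw [hx]
          rw [Nat.cast_sub (Nat.one_le_pow _ _ (by omega))] at h3
          push_cast at h3 ⊢
          exact h3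
        have hEg : E * g = v ^ 2 + 2 * v := by
          rw [hx]
          have : (v + 1) ^ (3 - 2 + 1) = v ^ 2 + 2 * v + 1 := by ring
          omega
        have hv22 : 22 ≤ v := by
          by_contra hcon
          have h3 : v ≤ 21 := by omega
          have h4 : v ^ 2 ≤ 21 ^ 2 := Nat.pow_le_pow_left h3 2
          have h5 : R ≤ R * g := Nat.le_mul_of_pos_right _ hg0
          omega
        have hlt : R < E := by
          apply lt_of_mul_lt_mul_right _ (Nat.zero_le g)
          rw [hRg, hEg]
          omega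
        have hS := h.ctx.spec hxpos hW (by omega) hlt.ne'
        obtain ⟨hq3, e, heo, hne, hue⟩ := h.ctx.uThree hgg (by omega) hRZ hEZ hS
        rcases h.n_odd_half hne with ⟨hn, he⟩ | ⟨hn, he⟩ | ⟨hn, he⟩ | ⟨hn, he⟩ | ⟨hn, he⟩ | ⟨hn, he⟩ <;>
          rw [he] at heo hue
        · -- `u = 41`
          have hu' : v = 40 := by norm_num at hue; omega
          subst hu'
          refine h.not_prime hq3 (s := 41) (by norm_num) (dvd_psu hF) (by norm_num) ?_
          intro k hk1 hk2
          rw [hn] at hk2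
          interval_cases k <;> norm_num
        · -- `u = 365`
          have hu' : v = 364 := by norm_num at hue; omega
          subst hu'
          exact two_primes hpp (a := 5) (b := 73) (by norm_num) (by norm_num) (by norm_num) (by norm_num)
            (by norm_num)
        · exact absurd heo (by decide)
        · exact absurd heo (by decide)
        · -- `u = 29525`
          have hu' : v = 29524 := by norm_num at hue; omega
          subst hu'
          exact two_primes hpp (a := 5) (b := 1181) (by norm_num) (by norm_num) (by norm_num) (by norm_num)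
            (by norm_num)
        · -- `u = 265721`
          have hu' : v = 265720 := by norm_num at hue; omega
          subst hu'
          exact two_primes hpp (a := 41) (b := 6481) (by norm_num) (by norm_num) (by norm_num) (by norm_num)
            (by norm_num)
      · -- `m = 4`
        have hm4 : m = 4 := by omega
        subst hm4
        rw [ph_odd (by decide)] at h1
        obtain ⟨v, rfl⟩ : ∃ v, u = v + 1 := ⟨u - 1, by omega⟩
        have hRg : R * g = v * ((v + 1) ^ 2 + 1) := by
          apply Nat.eq_of_mul_eq_mul_right (show 0 < v + 1 + 1 by omega)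
          rw [h1]
          have : (v + 1) ^ (4 - 1 + 1) = v * ((v + 1) ^ 2 + 1) * (v + 1 + 1) + 1 := by ring
          omega
        have hE2 := exists_blockU hF (n := 4) (k := 2) (by norm_num) (by norm_num)
        rw [ph_odd (by decide)] at hE2
        have hcop : Nat.Coprime R v := by
          refine Nat.coprime_of_dvd fun r hr hrR hrv => ?_
          have h3 : v * (v + 2) = (v + 1) ^ (2 - 1 + 1) - 1 := by
            have : (v + 1) ^ (2 - 1 + 1) = v * (v + 2) + 1 := by ring
            omega
          have h4 : r ∣ (v + 1) ^ (2 - 1 + 1) - 1 := by rw [← h3]; exact hrv.mul_right _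
          have h5 := h.iso.dvd_of_elt hE2 hr hrR h4
          rw [← h3] at h5
          have h6 : v * (v + 2) ∣ v * ((v + 1) ^ 2 + 1) := by rw [← hRg]; exact h5.mul_right _
          have h7 := Nat.dvd_of_mul_dvd_mul_left (by omega) h6
          have h8 : (v + 1) ^ 2 + 1 = (v + 2) * v + 2 := by ring
          rw [h8, Nat.dvd_add_right (dvd_mul_right _ _)] at h7
          have := Nat.le_of_dvd (by norm_num) h7
          omega
        have hRd : R ∣ (v + 1) ^ 2 + 1 := by
          refine hcop.dvd_of_dvd_mul_left ?_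
          rw [← hRg]
          exact dvd_mul_right _ _
        obtain ⟨j, hj⟩ := hRd
        have hj0 : 0 < j := by
          rcases Nat.eq_zero_or_pos j with h3 | h3
          · rw [h3, mul_zero] at hj; omega
          · exact h3
        have hvj : g = v * j := by
          apply Nat.eq_of_mul_eq_mul_left (show 0 < R by omega)
          rw [hRg, hj]
          ring
        have hv4 : v ≤ 4 := by
          have : v ≤ v * j := Nat.le_mul_of_pos_right _ hj0
          omega
        have h3 : (v + 1) ^ 2 ≤ 5 ^ 2 := Nat.pow_le_pow_left (by omega) 2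
        have h4 : R ≤ R * j := Nat.le_mul_of_pos_right _ hj0
        omega
    · exact h.ctx.uType hu hpu hm5 hg0 hgv h1 hx hW
  · -- second row
    have hum := Nat.le_of_dvd (by omega) h0
    rcases Nat.lt_or_ge m 6 with hm6 | hm6
    · have hu4 : u ≤ 4 := by omega
      have h3 : ph u (m - 2) ≤ 4 ^ 4 + 1 := by
        have h4 : u ^ (m - 2 + 1) ≤ 4 ^ 4 := by
          calc u ^ (m - 2 + 1) ≤ 4 ^ (m - 2 + 1) := Nat.pow_le_pow_left hu4 _
            _ ≤ 4 ^ 4 := Nat.pow_le_pow_right (by norm_num) (by omega)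
        unfold ph
        split_ifs <;> omega
      have h4 : R * 3 ≤ R * (u + 1) := Nat.mul_le_mul_left _ (by omega)
      omega
    · obtain ⟨x, hx⟩ := exists_blockU hF (n := m) (k := m - 2) (by omega) (by omega)
      have hW := h.win x
      rw [hx] at hW
      refine h.ctx.uType (M := m - 1) (g := 1) hu hpu (by omega) one_pos (by omega) ?_ ?_ hW
      · rw [mul_one, h1, show m - 1 - 1 = m - 2 by omega]
      · rw [mul_one, show m - 2 - 1 = m - 1 - 2 by omega]
  · omega
  · omega

end UWin

end Cfsg.Agent.H437.Win
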