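import Cfsg.Agent.H437.Win.FamE
import Cfsg.Agent.H437.Win.FamL
import Cfsg.Agent.H437.Win.FamU
import Cfsg.Agent.H437.Win.FamM
import Cfsg.Agent.H437.Win.FamP
import Cfsg.Agent.H437.Win.FamT

/-!
# The groups of Lie type in the window of `PSU_n(q)`, `n ≥ 7` prime
-/

set_option autoImplicit false

namespace Cfsg.Agent.H437.Win

open Cfsg Cfsg.Lie

variable {p q n R w r : ℕ}

theorem not_dvd_card {F : Type*} [Field F] [Fintype F] [CharP F r] (hr : r.Prime) (hp : p.Prime) (hrp : r ≠ p) :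
    ¬ p ∣ Fintype.card F := by
  intro hd
  have : Fact r.Prime := ⟨hr⟩
  obtain ⟨k, -, hk⟩ := FiniteField.card F r
  rw [hk] at hd
  exact hrp ((Nat.prime_dvd_prime_iff_eq hp hr).1 (hp.dvd_of_dvd_pow hd)).symm

/-- **The groups of Lie type in characteristic `r ≠ p`**, except `PSL_2`. -/
theorem UWin.not_lie {T : Type*} [Group T] (h : UWin T p q n R w) (hr : r.Prime) (hrp : r ≠ p)
    (hL2 : ∀ (F : Type) (_ : Field F) (_ : Fintype F), CharP F r → 4 ≤ Fintype.card F →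
      ¬ Nonempty (T ≃* Matrix.ProjectiveSpecialLinearGroup (Fin 2) F)) :
    ¬ IsLieTypeChar r T := by
  have hp := h.ctx.num.hp
  rintro (h1 | h1 | h1 | h1 | h1 | h1 | h1 | h1 | ⟨-, h1⟩ | ⟨-, h1⟩ | ⟨-, h1⟩)
  · obtain ⟨F, _, _, _, m, hm, h2, ⟨e⟩⟩ := h1
    rcases Nat.eq_or_lt_of_le hm with hm2 | hm3
    · subst hm2
      exact hL2 F _ _ inferInstance (h2 rfl) ⟨e⟩
    · refine (h.congr e).not_psl hm3 ?_
      rw [Nat.card_eq_fintype_card]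
      exact not_dvd_card hr hp hrp
  · obtain ⟨F, _, _, _, m, hm, -, ⟨e⟩⟩ := h1
    exact (h.congr e).not_psp hm
  · obtain ⟨F, _, _, _, m, u, hF, hm, h32, ⟨e⟩⟩ := h1
    refine (h.congr e).not_psu hF hm h32 fun hd => ?_
    have h3 := not_dvd_card (F := F) hr hp hrp
    rw [hF] at h3
    exact h3 (dvd_pow hd (by norm_num))
  · obtain ⟨F, _, _, _, m, hm, ho, ⟨e⟩⟩ := h1
    exact (h.congr e).not_omegaOdd hm ho
  · obtain ⟨F, _, _, _, m, hm, ⟨e⟩⟩ := h1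
    refine (h.congr e).not_plus hm ?_
    rw [Nat.card_eq_fintype_card]
    exact not_dvd_card hr hp hrp
  · obtain ⟨F, _, _, _, m, a, b, hm, hab, ⟨e⟩⟩ := h1
    refine (h.congr e).not_minus hm hab ?_
    rw [Nat.card_eq_fintype_card]
    exact not_dvd_card hr hp hrp
  · obtain ⟨F, _, _, _, ⟨-, ⟨e⟩⟩ | ⟨⟨e⟩⟩ | ⟨⟨e⟩⟩ | ⟨⟨e⟩⟩ | ⟨⟨e⟩⟩⟩ := h1
    · exact (h.congr e).not_g2
    · exact (h.congr e).not_f4
    · exact (h.congr e).not_e6
    · exact (h.congr e).not_e7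
    · exact (h.congr e).not_e8
  · obtain ⟨K, _, _, _, u, hu, ⟨hK, ⟨e⟩⟩ | ⟨hK, ⟨e⟩⟩⟩ := h1
    · exact (h.congr e).not_e6t hu hK
    · exact (h.congr e).not_d4t hu hK
  · obtain ⟨F, _, _, m, hm, hF, ⟨e⟩⟩ := h1
    obtain ⟨i⟩ := Cfsg.Agent.OddCyclic.ClaimC.SzIso.iso hm hF
    exact (h.congr (e.trans i.symm)).not_sz hm hF
  · obtain ⟨K, _, _, m, hm, hK, ⟨e⟩⟩ := h1
    exact (h.congr e).not_f4t hm hK
  · obtain ⟨K, _, _, m, hm, hK, ⟨e⟩⟩ := h1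
    exact (h.congr e).not_ree hm hK

/-- **The groups of Lie type in characteristic `r ≠ p`.** -/
theorem UWin.not_lie' {T : Type*} [Group T] (h : UWin T p q n R w) (hr : r.Prime) (hrp : r ≠ p) :
    ¬ IsLieTypeChar r T :=
  h.not_lie hr hrp fun F _ _ _ h4 ⟨e⟩ => (h.congr e).not_psl2 h4

end Cfsg.Agent.H437.Win
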