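import Cfsg.Agent.H437.Win.LData
import Cfsg.Agent.H437.Win.Lie
import Cfsg.Agent.H414.CompFactor
import Cfsg.Agent.H510.RedIso

/-!
# Composition factors of groups isospectral to `PSU_n(q)`, `n ≥ 7` prime
-/

set_option autoImplicit false

namespace Cfsg.Agent.H437.Win

open Cfsg Subgroup Cfsg.Agent.H420.QR

/-- an element of order `R` of `G`, `R` prime to `|K|` and `|G/K : S|`, gives one of `S` -/
theorem exists_elt_factor {G : Type*} [Group G] [Finite G] {K : Subgroup G} [K.Normal] {S : Subgroup (G ⧸ K)} [S.Normal]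
    {R : ℕ} (hK : Nat.Coprime R (Nat.card ↥K)) (hS : Nat.Coprime R S.index)
    (hg : ∃ g : G, orderOf g = R) : ∃ x : ↥S, orderOf x = R := by
  obtain ⟨g, hg⟩ := hg
  set y : G ⧸ K := QuotientGroup.mk' K g with hy
  have hyR : orderOf y ∣ R := by
    rw [← hg]
    exact orderOf_map_dvd (QuotientGroup.mk' K) g
  have hgK : g ^ orderOf y ∈ K := by
    rw [← QuotientGroup.eq_one_iff]
    have h1 : (QuotientGroup.mk' K g) ^ orderOf y = 1 := pow_orderOf_eq_one y
    rw [← map_pow] at h1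
    exact h1
  have h1 : orderOf (g ^ orderOf y) ∣ Nat.card ↥K := Subgroup.orderOf_dvd_natCard _ hgK
  have h2 : orderOf (g ^ orderOf y) ∣ R := by
    rw [← hg]
    exact orderOf_pow_dvd _
  have h3 : orderOf (g ^ orderOf y) = 1 := Nat.eq_one_of_dvd_coprimes hK h2 h1
  have h4 : orderOf y = R := by
    refine Nat.dvd_antisymm hyR ?_
    rw [← hg]
    exact orderOf_dvd_of_pow_eq_one (orderOf_eq_one_iff.1 h3)
  have hyS : y ∈ S := by
    have h5 : orderOf (QuotientGroup.mk' S y) ∣ R := by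
      rw [← h4]
      exact orderOf_map_dvd (QuotientGroup.mk' S) y
    have h6 : orderOf (QuotientGroup.mk' S y) ∣ S.index := orderOf_dvd_natCard _
    have h7 := Nat.eq_one_of_dvd_coprimes hS h5 h6
    rw [orderOf_eq_one_iff] at h7
    exact (QuotientGroup.eq_one_iff y).1 h7
  exact ⟨⟨y, hyS⟩, by rw [Subgroup.orderOf_mk, h4]⟩

/-- **S3631 for `n` prime.** -/
theorem main {F : Type*} [Field F] [Fintype F] (p a q n : ℕ) (hp : p.Prime) (ha : 1 ≤ a) (hq : q = p ^ a)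
    (hodd : Odd q) (hF : Fintype.card F = q ^ 2) (hn : n ∈ ({7, 11, 13, 17, 19, 23} : Finset ℕ))
    {G : Type*} [Group G] [Finite G]
    (h : Set.range (orderOf : G → ℕ) = Set.range (orderOf : Cfsg.PSU n F q → ℕ))
    (H : Subgroup G) (hH : H.IsSubnormal) (N : Subgroup ↥H) [N.Normal]
    (hs : IsSimpleGroup (↥H ⧸ N)) (hna : ¬ IsMulCommutative (↥H ⧸ N)) (r : ℕ) (hr : r.Prime) (hrp : r ≠ p) :
    ¬ Cfsg.IsLieTypeChar r (↥H ⧸ N) := by
  have hfin : Finite (Cfsg.PSU n F q) := inferInstance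
  have hn' := hn
  simp only [Finset.mem_insert, Finset.mem_singleton] at hn'
  have hnum : Num p q n := by
    refine ⟨hp, ⟨a, ha, hq⟩, hodd, ?_, by omega⟩
    rcases hn' with rfl | rfl | rfl | rfl | rfl | rfl <;> norm_num
  obtain ⟨R, w, hc⟩ := hnum.exists_ctx
  obtain ⟨ρ, hρ1, hρ2, hρ3, hρ4, u, hu, v, hv, huv, hu5, hv5⟩ := hnum.coq hF
  have hR5 := hc.R547
  have hex : ∀ k : ℕ, (∃ x : G, orderOf x = k) ↔ ∃ x : Cfsg.PSU n F q, orderOf x = k := by
    intro k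
    have : k ∈ Set.range (orderOf : G → ℕ) ↔ k ∈ Set.range (orderOf : Cfsg.PSU n F q → ℕ) := by rw [h]
    exact this
  have hdvd : ∀ s : ℕ, s.Prime → (s ∣ Nat.card G ↔ s ∣ Nat.card (Cfsg.PSU n F q)) := by
    intro s hs
    have := Fact.mk hs
    constructor
    · intro hd
      obtain ⟨y, hy⟩ := (hex s).1 (exists_prime_orderOf_dvd_card' s hd)
      rw [← hy]
      exact orderOf_dvd_natCard y
    · intro hd
      obtain ⟨y, hy⟩ := (hex s).2 (exists_prime_orderOf_dvd_card' s hd)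
      rw [← hy]
      exact orderOf_dvd_natCard y
  obtain ⟨x₀, hx₀⟩ := hc.elt_L hF
  have hRL : R ∣ Nat.card (Cfsg.PSU n F q) := by
    rw [← hx₀]
    exact orderOf_dvd_natCard x₀
  have h2A : 2 ∉ {s : ℕ | s ∣ R} := by
    intro h2
    have := hc.six_lt Nat.prime_two h2
    omega
  have hA : ∀ r ∈ {s : ℕ | s ∣ R}, ∀ s ∉ {s : ℕ | s ∣ R}, r.Prime → s.Prime → r ∣ Nat.card (Cfsg.PSU n F q) →
      s ∣ Nat.card (Cfsg.PSU n F q) → ¬ ∃ x : Cfsg.PSU n F q, orderOf x = r * s := by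
    rintro t ht s hs htp hsp - - ⟨x, hx⟩
    have h1 := hc.iso_L hF x htp ht (by rw [hx]; exact dvd_mul_right _ _)
    rw [hx] at h1
    exact hs ((dvd_mul_left s t).trans h1)
  have hρ : IsCoq (Cfsg.PSU n F q) ρ := ⟨hρ1, hρ2, hρ3⟩
  have hρG : IsCoq G ρ := ⟨hρ1, fun s hs => (hdvd s (hρ1 s hs)).2 (hρ2 s hs),
    fun s hs t ht hst hx => hρ3 s hs t ht hst ((hex _).1 hx)⟩
  obtain ⟨t, ht, htR⟩ := Nat.exists_prime_and_dvd (n := R) (by omega)
  have ht2 : t ≠ 2 := by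
    have := hc.six_lt ht htR
    omega
  obtain ⟨K, hK, S, hS, hred⟩ := exists_red hρG hρ4 ⟨t, ht, ht2, (hdvd t ht).2 (htR.trans hRL), fun hx => by
    obtain ⟨x, hx⟩ := (hex _).1 hx
    have h1 := hc.iso_L hF x ht htR (by rw [hx]; exact dvd_mul_left _ _)
    rw [hx] at h1
    exact h2A ((dvd_mul_right 2 t).trans h1)⟩
  have key := H510.RedIso.isolated' h hred h2A hA hρ hρ4 hu hv huv hu5 hv5
  have hsimp := hred.simple
  obtain ⟨e⟩ := H414.CompFactor.equiv_of_factor K hred.solv S hred.out H hH N hna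
  have hcK : Nat.Coprime R (Nat.card ↥K) := Nat.coprime_of_dvd fun s hs hsR hsK =>
    (key s hsR hs (hsR.trans hRL)).2.1 hsK
  have hcS : Nat.Coprime R S.index := Nat.coprime_of_dvd fun s hs hsR hsK =>
    (key s hsR hs (hsR.trans hRL)).2.2 hsK
  have helt : ∃ x : ↥S, orderOf x = R := exists_elt_factor hcK hcS ((hex R).2 ⟨x₀, hx₀⟩)
  have hwin : UWin ↥S p q n R w := by
    refine hc.uwin hF hn (fun x => ?_) helt
    have h1 : ∃ z : G ⧸ K, orderOf z = orderOf x := ⟨x, Subgroup.orderOf_coe x⟩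
    exact (hex _).1 (Cfsg.Agent.H414.Adj.exists_order_quot K (orderOf_pos x).ne' h1)
  exact (hwin.congr e.symm).not_lie' hr hrp

end Cfsg.Agent.H437.Win
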