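import Cfsg.Agent.H437.Win.Eig
import Cfsg.Agent.H149.PGU

/-!
# The large element orders of `PSU_n(q)`, `n` prime
-/

set_option autoImplicit false

namespace Cfsg.Agent.H437.Win

open Finset Function

section

variable {K : Type*} [Field K] {q : ℕ}

theorem iter_zpow_eq {x : K} (hx : x ≠ 0) {W : ℤ} (h : (x ^ W) ^ ((q : ℤ) + 1) = 1) (i : ℕ) :
    ((sg' q)^[i] x) ^ W = x ^ W := by
  rw [iter_eq hx, ← zpow_mul]
  have h1 : (-(q : ℤ)) ^ i * W = W + (W * ((q : ℤ) + 1)) * (-es q i) := by
    have := es_mul q i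
    linear_combination W * (-this)
  rw [h1, zpow_add₀ hx, zpow_mul, zpow_mul, h, one_zpow, mul_one]

theorem es_modEq (q a : ℕ) : ((q : ℤ) + 1) ∣ es q a - a := by
  induction a with
  | zero => simp [es]
  | succ a ih =>
    have h1 : es q (a + 1) = es q a + (-(q : ℤ)) ^ a := by rw [es, es, Finset.sum_range_succ]
    rw [h1]
    have h2 := es_mul q a
    have h3 : es q a + (-(q : ℤ)) ^ a - ((a + 1 : ℕ) : ℤ) = (es q a - a) + ((q : ℤ) + 1) * (-es q a) := by
      push_cast
      linear_combination -h2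
    rw [h3]
    exact dvd_add ih (dvd_mul_right _ _)

theorem pow_natAbs_of_zpow {s : Finset K} {W : ℤ} {z : K} (h : ∀ t ∈ s, t ^ W = z) :
    ∃ z', ∀ t ∈ s, t ^ W.natAbs = z' := by
  rcases Int.natAbs_eq W with h1 | h1
  · refine ⟨z, fun t ht => ?_⟩
    rw [← h t ht, ← zpow_natCast, ← h1]
  · refine ⟨z⁻¹, fun t ht => ?_⟩
    rw [← h t ht, ← zpow_natCast, ← zpow_neg]
    congr 1
    omega

end

/-- **The window lemma.** -/
theorem window {F : Type*} [Field F] [Fintype F] {p f q n : ℕ} [Fact p.Prime] [CharP F p] (hq : q = p ^ f)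
    (hp2 : p ≠ 2) (hq3 : 3 ≤ q) (hn : n.Prime) (h7 : 7 ≤ n) (g : PSU n F q) :
    orderOf g ≤ q ^ (n - 3) * (q + 1) ∨
    orderOf g * (Nat.gcd n (q + 1) * (q + 1)) ∣ q ^ n + 1 ∨
    (∃ a b, 1 ≤ a ∧ 1 ≤ b ∧ a + b = n ∧ orderOf g * (Nat.gcd n (q + 1) * (q + 1)) ∣ ua q a * ua q b) ∨
    orderOf g * Nat.gcd n (q + 1) ∣ p * (q ^ (n - 2) + 1) := by
  classical
  obtain ⟨g, rfl⟩ := QuotientGroup.mk_surjective g
  set A : Matrix (Fin n) (Fin n) F := ((g : Matrix.SpecialLinearGroup (Fin n) F) : Matrix (Fin n) (Fin n) F) with hA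
  let K := AlgebraicClosure F
  have hCP : CharP K p := charP_of_injective_algebraMap (algebraMap F K).injective p
  set Y : Matrix (Fin n) (Fin n) K := A.map (algebraMap F K) with hY
  have hdetA : A.det = 1 := (g : Matrix.SpecialLinearGroup (Fin n) F).2
  have hdet : Y.det = 1 := by
    rw [hY, show A.map (algebraMap F K) = (algebraMap F K).mapMatrix A from rfl, ← RingHom.map_det, hdetA, map_one]
  have hY1 : (Y.map (iterateFrobenius K p f)).charpoly = (Y⁻¹).charpoly := by
    have h1 := H149.PGU.charpoly_unitary hq g.2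
    rw [← hA] at h1
    have h2 : Y.map (iterateFrobenius K p f) = (A.map (iterateFrobenius F p f)).map (algebraMap F K) := by
      ext i j
      simp [hY, Matrix.map_apply, iterateFrobenius_def]
    have h3 : Y⁻¹ = (A⁻¹).map (algebraMap F K) := by
      apply Matrix.inv_eq_right_inv
      rw [hY, ← Matrix.map_mul, Matrix.mul_nonsing_inv _ (by rw [hdetA]; exact isUnit_one), Matrix.map_one _ (map_zero _) (map_one _)]
    rw [h2, h3, Matrix.charpoly_map, h1, Matrix.charpoly_map]
  have hinj : Injective (sg' q : K → K) := sg'_injective hq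
  set Λ := Y.charpoly.roots.toFinset with hΛ
  have hmem : ∀ x, x ∈ Λ ↔ 1 ≤ Y.charpoly.roots.count x := by
    intro x
    rw [hΛ, Multiset.mem_toFinset, Multiset.one_le_count_iff_mem]
  have hcs : ∀ x, Y.charpoly.roots.count (sg' q x) = Y.charpoly.roots.count x := count_stable hq hdet hY1
  have hst : Stab q Λ := by
    refine ⟨fun x hx => roots_ne_zero hdet (Multiset.mem_toFinset.1 hx), fun x hx => ?_⟩
    rw [hmem] at hx ⊢
    rw [hcs]
    exact hx
  have hsum : ∑ x ∈ Λ, Y.charpoly.roots.count x = n := by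
    rw [hΛ, Multiset.toFinset_sum_count_eq, ← (IsAlgClosed.splits Y.charpoly).natDegree_eq_card_roots,
      Matrix.charpoly_natDegree_eq_dim, Fintype.card_fin]
  have hprod : ∏ x ∈ Λ, x ^ Y.charpoly.roots.count x = 1 := by
    rw [hΛ, ← Finset.prod_multiset_count, ← Matrix.det_eq_prod_roots_charpoly, hdet]
  -- the order
  have key : ∀ k s : ℕ, (∃ z, ∀ x ∈ Λ, x ^ k = z) → (∀ x ∈ Λ, Y.charpoly.roots.count x ≤ p ^ s) →
      orderOf (QuotientGroup.mk g : PSU n F q) ∣ k * p ^ s := by
    rintro k s ⟨z, hz⟩ hc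
    obtain ⟨c, hc⟩ := scalar_of_map A hn.one_lt.le (pow_scalar Y (k := k) (s := s) (z := z)
      (fun x hx => hz x (Multiset.mem_toFinset.2 hx)) (fun x hx => hc x (Multiset.mem_toFinset.2 hx)))
    apply orderOf_dvd_of_pow_eq_one
    rw [← QuotientGroup.mk_pow, QuotientGroup.eq_one_iff, Subgroup.mem_center_iff]
    intro h
    apply Subtype.ext
    apply Subtype.ext
    show ((h : Matrix.SpecialLinearGroup (Fin n) F) : Matrix (Fin n) (Fin n) F) * A ^ (k * p ^ s) =
      A ^ (k * p ^ s) * ((h : Matrix.SpecialLinearGroup (Fin n) F) : Matrix (Fin n) (Fin n) F)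
    rw [hc, Matrix.mul_smul, Matrix.smul_mul, Matrix.mul_one, Matrix.one_mul]
  have hp := (Fact.out : p.Prime)
  have hp3 : 3 ≤ p := by
    have := hp.two_le
    omega
  have hpq : p ≤ q := by
    have hf : f ≠ 0 := by
      rintro rfl
      simp at hq
      omega
    rw [hq]
    exact Nat.le_self_pow hf p
  have hcn : Nat.gcd n (q + 1) ∣ n := Nat.gcd_dvd_left _ _
  obtain ⟨d, hd⟩ := Nat.gcd_dvd_right n (q + 1)
  set c := Nat.gcd n (q + 1) with hc
  have hc0 : 0 < c := Nat.gcd_pos_of_pos_left _ hn.pos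
  have hdZ : (q : ℤ) + 1 = c * d := by exact_mod_cast hd
  have hnodd : Odd n := hn.odd_of_ne_two (by omega)
  have hdvd : ∀ X : ℤ, ((q : ℤ) + 1) ∣ X - n → (c : ℤ) ∣ X := by
    intro X hX
    have h1 : (c : ℤ) ∣ X - n := (Dvd.intro _ hdZ.symm).trans hX
    have h2 : (c : ℤ) ∣ n := by exact_mod_cast hcn
    have := dvd_add h1 h2
    rwa [sub_add_cancel] at this
  rcases hst.cases hinj hq3 hn h7 (fun x => Y.charpoly.roots.count x) (fun x hx => (hmem x).1 hx)
    (fun x _ => hcs x) hsum with ⟨x, hx, hΛx, hper, hm⟩ | ⟨x, hx, y, hy, hyx, hdis, hiff, hab, hm⟩ |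
      ⟨x, hx, y, hy, hxy, hiff, hper, hb, hmx, hmy⟩ | ⟨N, M, hN0, hN, hM, hcase⟩
  · -- one orbit
    right; left
    have hx0 := hst.ne x hx
    obtain ⟨e, he⟩ := hdvd (es q n) (es_modEq q n)
    have h1 : x ^ es q n = 1 := by
      have hpo := prod_orb (q := q) hx0
      rw [hper, ← hΛx] at hpo
      rw [← hpo, ← hprod]
      apply Finset.prod_congr rfl
      intro z hz
      rw [hm z hz, pow_one]
    have h2 : (x ^ e) ^ ((q : ℤ) + 1) = 1 := by
      rw [← zpow_mul, hdZ, ← mul_assoc, mul_comm e, ← he, zpow_mul, h1, one_zpow]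
    have h3 : ∀ t ∈ Λ, t ^ e = x ^ e := by
      intro t ht
      rw [hΛx] at ht
      obtain ⟨i, -, rfl⟩ := mem_orb.1 ht
      exact iter_zpow_eq hx0 h2 i
    have h4 := key e.natAbs 0 (pow_natAbs_of_zpow h3) (fun t ht => by rw [hm t ht]; simp)
    rw [pow_zero, mul_one] at h4
    have h5 : e.natAbs * (c * (q + 1)) = q ^ n + 1 := by
      rw [← ua_odd hnodd, ua, he, Int.natAbs_mul, Int.natAbs_natCast]
      ring
    rw [← h5]
    exact Nat.mul_dvd_mul_right h4 _
  · -- two orbits
    right; right; left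
    have hx0 := hst.ne x hx
    have hy0 := hst.ne y hy
    have hpx := hst.period hinj hx
    have hpy := hst.period hinj hy
    set a := minimalPeriod (sg' q) x with ha
    set b := minimalPeriod (sg' q) y with hb
    have hΛ' : Λ = (orb q x).disjUnion (orb q y) hdis := by
      ext z
      rw [hiff z, Finset.mem_disjUnion]
    have h1 : x ^ es q a * y ^ es q b = 1 := by
      rw [← hprod, ha, hb, ← prod_orb hx0, ← prod_orb hy0, hΛ', Finset.prod_disjUnion]
      congr 1
      · apply Finset.prod_congr rfl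
        intro z hz
        rw [hm z ((hiff z).2 (Or.inl hz)), pow_one]
      · apply Finset.prod_congr rfl
        intro z hz
        rw [hm z ((hiff z).2 (Or.inr hz)), pow_one]
    have h2 : (x ^ es q a) ^ ((q : ℤ) + 1) = 1 := by
      have h3 := pow_orb (q := q) hx0 (hst.self_mem_orb hinj hx)
      rw [← ha, ua] at h3
      rw [← zpow_mul]
      rcases Int.natAbs_eq (es q a) with h4 | h4
      · rw [h4]
        exact_mod_cast h3
      · rw [h4, neg_mul, zpow_neg]
        have : x ^ (((es q a).natAbs : ℤ) * ((q : ℤ) + 1)) = 1 := by exact_mod_cast h3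
        rw [this, inv_one]
    have h2y : y ^ es q b = (x ^ es q a)⁻¹ := eq_inv_of_mul_eq_one_right h1
    obtain ⟨e, he⟩ := hdvd (es q a + es q b) (by
      have h5 := dvd_add (es_modEq q a) (es_modEq q b)
      have h6 : es q a - a + (es q b - b) = es q a + es q b - n := by
        rw [← hab]; push_cast; ring
      rwa [h6] at h5)
    set W : ℤ := es q a * es q b * d with hW
    set w := x ^ es q a with hw
    have hw0 : w ≠ 0 := zpow_ne_zero _ hx0
    have hxW : x ^ W = w ^ (es q b * d) := by rw [hW, mul_assoc, zpow_mul]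
    have hyW : y ^ W = w ^ (es q b * d) := by
      have h7 : y ^ W = w ^ (-(es q a * d)) := by
        rw [hW, mul_comm (es q a), mul_assoc, zpow_mul, h2y, inv_zpow', ]
      have h8 : w ^ (es q b * d - (-(es q a * d))) = 1 := by
        have h9 : es q b * d - (-(es q a * d)) = ((q : ℤ) + 1) * e := by
          rw [hdZ]
          linear_combination d * he
        rw [h9, zpow_mul, h2, one_zpow]
      rw [zpow_sub₀ hw0, div_eq_one_iff_eq (zpow_ne_zero _ hw0)] at h8
      rw [h7, h8]
    have hall : ∀ t ∈ Λ, t ^ W = w ^ (es q b * d) := by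
      intro t ht
      have h10 : (w ^ (es q b * d)) ^ ((q : ℤ) + 1) = 1 := by
        rw [← zpow_mul, mul_comm, zpow_mul, h2, one_zpow]
      rcases (hiff t).1 ht with h | h
      · obtain ⟨i, -, rfl⟩ := mem_orb.1 h
        rw [iter_zpow_eq hx0 (by rw [hxW]; exact h10) i, hxW]
      · obtain ⟨i, -, rfl⟩ := mem_orb.1 h
        rw [iter_zpow_eq hy0 (by rw [hyW]; exact h10) i, hyW]
    have h4 := key W.natAbs 0 (pow_natAbs_of_zpow hall) (fun t ht => by rw [hm t ht]; simp)
    rw [pow_zero, mul_one] at h4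
    refine ⟨a, b, hpx, hpy, hab, ?_⟩
    have h5 : W.natAbs * (c * (q + 1)) = ua q a * ua q b := by
      rw [ua, ua, hW, Int.natAbs_mul, Int.natAbs_mul, Int.natAbs_natCast]
      calc (es q a).natAbs * (es q b).natAbs * d * (c * (q + 1)) =
          (es q a).natAbs * (es q b).natAbs * ((c * d) * (q + 1)) := by ring
        _ = _ := by rw [← hd]; ring
    rw [← h5]
    exact Nat.mul_dvd_mul_right h4 _
  · -- a fixed point of multiplicity two
    right; right; right
    have hx0 := hst.ne x hx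
    have hy0 := hst.ne y hy
    set b := minimalPeriod (sg' q) y with hbdef
    have hxq : x ^ ((q : ℤ) + 1) = 1 := by
      have h3 := pow_orb (q := q) hx0 (hst.self_mem_orb hinj hx)
      rw [hper, ua_odd odd_one, pow_one] at h3
      exact_mod_cast h3
    have h1 : x ^ (2 : ℤ) * y ^ es q b = 1 := by
      have hΛ' : Λ = ({x} : Finset K).disjUnion (orb q y) (by
          rw [Finset.disjoint_singleton_left]; exact hxy) := by
        ext z
        rw [hiff z, Finset.mem_disjUnion, Finset.mem_singleton]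
      rw [← hprod, hbdef, ← prod_orb hy0, hΛ', Finset.prod_disjUnion, Finset.prod_singleton]
      congr 1
      · rw [hmx]; norm_cast
      · apply Finset.prod_congr rfl
        intro z hz
        rw [hmy z hz, pow_one]
    have h2 : (y ^ es q b) = x ^ (-2 : ℤ) := by
      rw [zpow_neg]
      exact eq_inv_of_mul_eq_one_right h1
    obtain ⟨e, he⟩ := hdvd (es q b + 2) (by
      have h5 := es_modEq q b
      have h6 : es q b - b = es q b + 2 - n := by
        rw [← hb]; push_cast; ring
      rwa [h6] at h5)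
    set W : ℤ := es q b * d with hW
    have hyW : y ^ W = x ^ W := by
      have h7 : y ^ W = x ^ (-2 * d : ℤ) := by rw [hW, zpow_mul, h2, ← zpow_mul]
      have h8 : x ^ (W - (-2 * d)) = 1 := by
        have h9 : W - (-2 * d) = ((q : ℤ) + 1) * e := by
          rw [hdZ, hW]
          linear_combination d * he
        rw [h9, zpow_mul, hxq, one_zpow]
      rw [zpow_sub₀ hx0, div_eq_one_iff_eq (zpow_ne_zero _ hx0)] at h8
      rw [h7, h8]
    have hall : ∀ t ∈ Λ, t ^ W = x ^ W := by
      intro t ht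
      have h10 : (x ^ W) ^ ((q : ℤ) + 1) = 1 := by
        rw [← zpow_mul, mul_comm, zpow_mul, hxq, one_zpow]
      rcases (hiff t).1 ht with rfl | h
      · rfl
      · obtain ⟨i, -, rfl⟩ := mem_orb.1 h
        rw [iter_zpow_eq hy0 (by rw [hyW]; exact h10) i, hyW]
    have h4 := key W.natAbs 1 (pow_natAbs_of_zpow hall) (fun t ht => by
      rw [pow_one]
      rcases (hiff t).1 ht with rfl | h
      · rw [hmx]; omega
      · rw [hmy t h]; omega)
    rw [pow_one] at h4
    have hbodd : Odd b := by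
      rw [← hb] at hnodd
      exact (Nat.odd_add.1 hnodd).2 even_two
    have h5 : W.natAbs * c = q ^ (n - 2) + 1 := by
      rw [show n - 2 = b by omega, ← ua_odd hbodd, ua, hW, Int.natAbs_mul, Int.natAbs_natCast, hd]
      ring
    rw [← h5, show p * (W.natAbs * c) = W.natAbs * p * c by ring]
    exact Nat.mul_dvd_mul_right h4 _
  · -- the rest
    left
    have hN' : ∃ z, ∀ x ∈ Λ, x ^ N = z := ⟨1, hN⟩
    rcases hcase with ⟨rfl, hle⟩ | ⟨hM23, hle⟩ | ⟨hM4, hle⟩
    · have h1 := key N 0 hN' (fun t ht => by rw [pow_zero]; exact hM t ht)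
      rw [pow_zero, mul_one] at h1
      exact (Nat.le_of_dvd hN0 h1).trans hle
    · have h1 := key N 1 hN' (fun t ht => by rw [pow_one]; exact (hM t ht).trans (by omega))
      rw [pow_one] at h1
      refine (Nat.le_of_dvd (by positivity) h1).trans (le_trans ?_ hle)
      rw [mul_comm]
      exact Nat.mul_le_mul_right _ hpq
    · -- the least `s` with `M ≤ p ^ s`
      have hex : ∃ s, M ≤ p ^ s := ⟨M, (Nat.lt_pow_self hp.one_lt).le⟩
      have h1 := Nat.find_spec hex
      have h2 := fun m (hm : m < Nat.find hex) => Nat.find_min hex hm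
      set s := Nat.find hex with hs
      have hs0 : s ≠ 0 := by
        intro h0
        rw [h0, pow_zero] at h1
        omega
      obtain ⟨s', hs'⟩ : ∃ s', s = s' + 1 := ⟨s - 1, by omega⟩
      have h3 := h2 s' (by omega)
      have h4 : p ^ s ≤ q * (M - 1) := by
        rw [hs', pow_succ, mul_comm]
        exact Nat.mul_le_mul hpq (by omega)
      have h5 := key N s hN' (fun t ht => (hM t ht).trans h1)
      have hps : 0 < p ^ s := pow_pos hp.pos _
      refine (Nat.le_of_dvd (Nat.mul_pos hN0 hps) h5).trans (le_trans ?_ hle)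
      calc N * p ^ s ≤ N * (q * (M - 1)) := Nat.mul_le_mul_left _ h4
        _ = _ := by ring

end Cfsg.Agent.H437.Win
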