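import Cfsg.Agent.H437.Win.Fam
import Cfsg.Agent.H437.Win.Window
import Cfsg.Agent.H149.PGU3
import Cfsg.Agent.H364.UnitaryReg
import Cfsg.Agent.H364.UTorus

/-!
# `PSU_n(q)`, `n ≥ 7` prime: the isolated number, a coclique, sections
-/

set_option autoImplicit false

namespace Cfsg.Agent.H437.Win

open Cfsg Cfsg.Agent.H360.Iso Cfsg.Agent.H364.Unitary

variable {p q n R w : ℕ}

theorem sg_natAbs (hn : Odd n) : (sg q n).natAbs * (q + 1) = q ^ n + 1 := by
  have h1 := sg_mul q n
  rw [hn.neg_pow] at h1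
  have h2 : sg q n * ((q : ℤ) + 1) = (q : ℤ) ^ n + 1 := by linarith
  have h3 := congrArg Int.natAbs h2
  rw [Int.natAbs_mul] at h3
  have h4 : ((q : ℤ) + 1).natAbs = q + 1 := by
    have : ((q : ℤ) + 1) = ((q + 1 : ℕ) : ℤ) := by push_cast; rfl
    rw [this, Int.natAbs_natCast]
  have h5 : ((q : ℤ) ^ n + 1).natAbs = q ^ n + 1 := by
    have : ((q : ℤ) ^ n + 1) = ((q ^ n + 1 : ℕ) : ℤ) := by push_cast; rfl
    rw [this, Int.natAbs_natCast]
  rw [h4, h5] at h3
  exact h3

theorem Num.exists_ctx (h : Num p q n) : ∃ R w, Ctx p q n R w := by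
  have h1 : Nat.gcd n (q + 1) ∣ (sg q n).natAbs := by
    have := dvd_sg q n
    exact Int.natCast_dvd.1 this
  obtain ⟨R, hR⟩ := h1
  refine ⟨R, _, h, rfl, ?_⟩
  rw [← sg_natAbs h.nodd, hR]
  ring

namespace Ctx

variable (h : Ctx p q n R w)

include h

theorem R_eq : R = (sg q n).natAbs / Nat.gcd n (q + 1) := by
  have h1 := sg_natAbs (q := q) h.num.nodd
  have h2 : R * Nat.gcd n (q + 1) = (sg q n).natAbs := by
    apply Nat.eq_of_mul_eq_mul_right (show 0 < q + 1 by omega)
    rw [h1, ← h.hR, h.hw]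
    ring
  rw [← h2, Nat.mul_div_cancel _ h.num.gcd_pos]

/-- the primes dividing `R` -/
theorem ord_of_dvd {r : ℕ} (hr : r.Prime) (hrR : r ∣ R) : orderOf (-(q : ZMod r)) = n := by
  have hrf := Fact.mk hr
  have hnf := Fact.mk h.num.hn
  have hd : r ∣ q ^ n + 1 := by rw [← h.hR]; exact hrR.mul_right _
  have h1 : (-(q : ZMod r)) ^ n = 1 := by
    rw [h.num.nodd.neg_pow]
    have h2 : ((q ^ n + 1 : ℕ) : ZMod r) = 0 := (ZMod.natCast_eq_zero_iff _ _).2 hd
    push_cast at h2
    linear_combination -h2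
  rcases (Nat.dvd_prime h.num.hn).1 (orderOf_dvd_of_pow_eq_one h1) with h2 | h2
  · exfalso
    rw [orderOf_eq_one_iff] at h2
    have hrq : r ∣ q + 1 := by
      rw [← ZMod.natCast_eq_zero_iff]
      push_cast
      linear_combination -h2
    -- `r = n`
    have h3 := H364.Unitary.sg_mul q n
    have hrS : (r : ℤ) ∣ sg q n := by
      have h4 : R ∣ (sg q n).natAbs := by
        have h5 := h.R_eq
        have h6 : Nat.gcd n (q + 1) ∣ (sg q n).natAbs := Int.natCast_dvd.1 (dvd_sg q n)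
        rw [h5]
        exact Nat.div_dvd_of_dvd h6
      exact Int.natCast_dvd.2 (hrR.trans h4)
    have hsn : (r : ℤ) ∣ sg q n - n := by
      have h5 : ((q : ℤ) + 1) ∣ sg q n - n := by
        have h6 : (sg q n : ℤ) - n = ∑ i ∈ Finset.range n, ((-(q : ℤ)) ^ i - 1) := by
          rw [Finset.sum_sub_distrib, sg]
          simp
        rw [h6]
        refine Finset.dvd_sum fun i _ => ?_
        have h7 : (-(q : ℤ) - 1) ∣ (-(q : ℤ)) ^ i - 1 := by
          have := sub_dvd_pow_sub_pow (-(q : ℤ)) 1 i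
          rwa [one_pow] at this
        have h8 : (-(q : ℤ) - 1) = -((q : ℤ) + 1) := by ring
        rw [h8, neg_dvd] at h7
        exact h7
      refine dvd_trans ?_ h5
      exact_mod_cast hrq
    have hrn : r ∣ n := by
      have h5 : (r : ℤ) ∣ n := by
        have := dvd_sub hrS hsn
        rwa [sub_sub_cancel] at this
      exact_mod_cast h5
    have hrn' : r = n := (Nat.prime_dvd_prime_iff_eq hr h.num.hn).1 hrn
    subst hrn'
    -- valuations
    have hg : Nat.gcd r (q + 1) = r := Nat.gcd_eq_left hrq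
    have hRR := h.hR
    rw [h.hw, hg] at hRR
    have hnq : ¬ r ∣ q := by
      intro h5
      have h6 : r ∣ 1 := (Nat.dvd_add_right h5).1 hrq
      exact hr.one_lt.ne' (Nat.dvd_one.1 h6)
    have hv := padicValNat.pow_add_pow (p := r) (x := q) (y := 1) h.num.nodd hrq hnq h.num.nodd
    rw [one_pow, ← hRR] at hv
    have hR0 : R ≠ 0 := by have := h.R547; omega
    rw [padicValNat.mul hR0 (Nat.mul_ne_zero hr.ne_zero (by omega)), padicValNat.mul hr.ne_zero (by omega)] at hv
    have h7 : 1 ≤ padicValNat r R := one_le_padicValNat_of_dvd hR0 hrR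
    omega
  · exact h2

theorem six_lt {r : ℕ} (hr : r.Prime) (hrR : r ∣ R) : 7 < r := by
  have hrf := Fact.mk hr
  have h1 := h.ord_of_dvd hr hrR
  have h2 : ¬ r ∣ q := by
    intro h3
    have h4 : (q : ZMod r) = 0 := (ZMod.natCast_eq_zero_iff _ _).2 h3
    rw [h4, neg_zero, orderOf_zero] at h1
    have := h.num.h7
    omega
  have h3 : (-(q : ZMod r)) ≠ 0 := by
    rw [neg_ne_zero]
    intro h4
    exact h2 ((ZMod.natCast_eq_zero_iff _ _).1 h4)
  have h4 := orderOf_dvd_of_pow_eq_one (ZMod.pow_card_sub_one_eq_one h3)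
  rw [h1] at h4
  have h5 := Nat.le_of_dvd (by have := hr.two_le; omega) h4
  have := h.num.h7
  have := hr.two_le
  omega

end Ctx

section L

variable {F : Type*} [Field F] [Fintype F]

theorem Ctx.iso_L (h : Ctx p q n R w) (hF : Fintype.card F = q ^ 2) (x : PSU n F q) {r : ℕ} (hr : r.Prime)
    (hrR : r ∣ R) (hx : r ∣ orderOf x) : orderOf x ∣ R := by
  have h7 := h.num.h7
  rw [h.R_eq]
  refine psu_orderOf_dvd hF hr ?_ (by omega) (by omega) (h.ord_of_dvd hr hrR) hx
  intro h0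
  -- `r` is the characteristic
  obtain ⟨f, hf, hq⟩ := h.num.hq
  have hrp : r ∣ q := by
    have : Fact p.Prime := ⟨h.num.hp⟩
    obtain ⟨c, hc⟩ := CharP.exists F
    have h1 : c ∣ r := (CharP.cast_eq_zero_iff F c r).1 h0
    have hcp : c.Prime := CharP.char_is_prime F c
    have hcr : c = r := (Nat.prime_dvd_prime_iff_eq hcp hr).1 h1
    subst hcr
    have hcf : Fact c.Prime := ⟨hcp⟩
    obtain ⟨k, -, hk⟩ := FiniteField.card F c
    rw [hF] at hk
    have h2 : c ∣ q ^ 2 := by rw [hk]; exact dvd_pow_self c k.ne_zero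
    exact hcp.dvd_of_dvd_pow h2
  have hd : r ∣ q ^ n + 1 := by rw [← h.hR]; exact hrR.mul_right _
  have h2 : r ∣ 1 := (Nat.dvd_add_right (dvd_pow hrp (by omega))).1 hd
  exact hr.one_lt.ne' (Nat.dvd_one.1 h2)

theorem Ctx.elt_L (h : Ctx p q n R w) (hF : Fintype.card F = q ^ 2) : ∃ x : PSU n F q, orderOf x = R := by
  have h7 := h.num.h7
  obtain ⟨x, hx⟩ := H364.UTorus.exists_psu_orderOf hF h.num.nodd (by omega)
  have h1 : (q ^ n + 1) / (q + 1) = R * Nat.gcd n (q + 1) := by
    rw [← h.hR, h.hw]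
    rw [show R * (Nat.gcd n (q + 1) * (q + 1)) = R * Nat.gcd n (q + 1) * (q + 1) by ring]
    exact Nat.mul_div_cancel _ (by omega)
  rw [h1] at hx
  have h2 : R ∣ orderOf x := Nat.dvd_of_mul_dvd_mul_right h.num.gcd_pos hx
  obtain ⟨r, hr, hrR⟩ := Nat.exists_prime_and_dvd (n := R) (by have := h.R547; omega)
  exact ⟨x, Nat.dvd_antisymm (h.iso_L hF x hr hrR (hrR.trans h2)) h2⟩

/-- **A coclique of three primes.** -/
theorem Num.coq (h : Num p q n) (hF : Fintype.card F = q ^ 2) : ∃ ρ : Finset ℕ,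
    (∀ r ∈ ρ, r.Prime) ∧ (∀ r ∈ ρ, r ∣ Nat.card (PSU n F q)) ∧
    (∀ r ∈ ρ, ∀ s ∈ ρ, r ≠ s → ¬ ∃ x : PSU n F q, orderOf x = r * s) ∧ 3 ≤ ρ.card ∧
    ∃ u ∈ ρ, ∃ v ∈ ρ, u ≠ v ∧ 5 < u ∧ 5 < v := by
  classical
  obtain ⟨f, hf, hq⟩ := h.hq
  have h7 := h.h7
  have h3 := h.q3
  have hpf := Fact.mk h.hp
  have key : ∀ i, n - 2 ≤ i → i ≤ n → ∃ r : ℕ, r.Prime ∧ orderOf (-(q : ZMod r)) = i ∧ r ≠ p ∧
      (¬ r ∣ q + 1) ∧ r ∣ Nat.card (PSU n F q) ∧ i < r := by
    intro i hi1 hi2
    obtain ⟨r, hr, ho, hrf, hrp, hr2⟩ := H149.NegPrime.exists_neg_prime (i := i) h.hp hq hf (by omega) (by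
      rintro ⟨h1, h2⟩
      omega)
    have := Fact.mk hr
    have hq1 : ¬ r ∣ q + 1 := by
      intro h
      have h1 : ((q + 1 : ℕ) : ZMod r) = 0 := (ZMod.natCast_eq_zero_iff _ _).2 h
      have h2 : -(q : ZMod r) = 1 := by
        push_cast at h1
        linear_combination -h1
      rw [h2, orderOf_one] at ho
      omega
    refine ⟨r, hr, ho, hrp, hq1, H149.PGU.dvd_card_psu hF (by omega) hr (by omega) hi2 ho, ?_⟩
    have h3 : (-(q : ZMod r)) ≠ 0 := by
      intro h4
      rw [h4, orderOf_zero] at ho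
      omega
    have h4 := orderOf_dvd_of_pow_eq_one (ZMod.pow_card_sub_one_eq_one h3)
    rw [ho] at h4
    have h5 := Nat.le_of_dvd (by have := hr.two_le; omega) h4
    have := hr.two_le
    omega
  have adj : ∀ i j r s : ℕ, i < j → n - 2 ≤ i → j ≤ n → r.Prime → s.Prime → orderOf (-(q : ZMod r)) = i →
      orderOf (-(q : ZMod s)) = j → r ≠ p → s ≠ p → (¬ r ∣ q + 1) → (¬ s ∣ q + 1) →
      ¬ ∃ x : PSU n F q, orderOf x = r * s := by
    intro i j r s hij hi hj hr hs hor hos hrp hsp hr1 hs1 hadj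
    have hrs : r ≠ s := by
      rintro rfl
      omega
    rcases H149.PGU.psu_adj hq hF (by omega) hr hs hrs hrp hsp hr1 hs1 hadj with h | ⟨d, hd0, hdn, h1, h2⟩
    · omega
    · rw [hor] at h1
      rw [hos] at h2
      have h3 : d = j := by
        obtain ⟨k, rfl⟩ := h2
        have : k ≠ 0 := by rintro rfl; omega
        have : k < 2 := by
          by_contra hk
          have : j * 2 ≤ j * k := Nat.mul_le_mul_left j (by omega)
          omega
        have : k = 1 := by omega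
        rw [this, mul_one]
      rw [h3] at h1
      obtain ⟨k, hk⟩ := h1
      have : k ≠ 0 := by rintro rfl; omega
      have : k ≠ 1 := by rintro rfl; omega
      have : i * 2 ≤ i * k := Nat.mul_le_mul_left i (by omega)
      omega
  obtain ⟨r1, hr1, ho1, hp1, hq1, hd1, hO1⟩ := key (n - 2) le_rfl (by omega)
  obtain ⟨r2, hr2, ho2, hp2, hq2, hd2, hO2⟩ := key (n - 1) (by omega) (by omega)
  obtain ⟨r3, hr3, ho3, hp3, hq3, hd3, hO3⟩ := key n (by omega) le_rfl
  have a12 := adj _ _ _ _ (by omega) le_rfl (by omega) hr1 hr2 ho1 ho2 hp1 hp2 hq1 hq2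
  have a23 := adj _ _ _ _ (by omega) (by omega) le_rfl hr2 hr3 ho2 ho3 hp2 hp3 hq2 hq3
  have a13 := adj _ _ _ _ (by omega) le_rfl le_rfl hr1 hr3 ho1 ho3 hp1 hp3 hq1 hq3
  have n12 : r1 ≠ r2 := by rintro rfl; omega
  have n13 : r1 ≠ r3 := by rintro rfl; omega
  have n23 : r2 ≠ r3 := by rintro rfl; omega
  refine ⟨{r1, r2, r3}, ?_, ?_, ?_, ?_, r2, by simp, r3, by simp, n23, by omega, by omega⟩
  · intro r hr
    simp only [Finset.mem_insert, Finset.mem_singleton] at hr
    rcases hr with rfl | rfl | rfl <;> assumption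
  · intro r hr
    simp only [Finset.mem_insert, Finset.mem_singleton] at hr
    rcases hr with rfl | rfl | rfl <;> assumption
  · intro r hr s hs hrs
    simp only [Finset.mem_insert, Finset.mem_singleton] at hr hs
    rcases hr with rfl | rfl | rfl <;> rcases hs with rfl | rfl | rfl
    · exact absurd rfl hrs
    · exact a12
    · exact a13
    · rw [mul_comm]; exact a12
    · exact absurd rfl hrs
    · exact a23
    · rw [mul_comm]; exact a13
    · rw [mul_comm]; exact a23
    · exact absurd rfl hrs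
  · rw [Finset.card_insert_of_notMem, Finset.card_insert_of_notMem, Finset.card_singleton]
    · simpa using n23
    · simp [n12, n13]

/-- **Sections of groups with the orders of `L`.** -/
theorem Ctx.uwin (h : Ctx p q n R w) (hF : Fintype.card F = q ^ 2)
    (hn : n ∈ ({7, 11, 13, 17, 19, 23} : Finset ℕ)) {T : Type*} [Group T] [Finite T]
    (hT : ∀ x : T, ∃ y : PSU n F q, orderOf y = orderOf x) (he : ∃ x : T, orderOf x = R) :
    UWin T p q n R w := by
  have h7 := h.num.h7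
  have hR := h.R547
  have hpf := Fact.mk h.num.hp
  obtain ⟨f, hf, hq⟩ := h.num.hq
  have hc : CharP F p := by
    obtain ⟨c, hc⟩ := CharP.exists F
    have hcp : c.Prime := CharP.char_is_prime F c
    have hcf : Fact c.Prime := ⟨hcp⟩
    obtain ⟨k, -, hk⟩ := FiniteField.card F c
    rw [hF, hq, ← pow_mul] at hk
    have h2 : c ∣ p ^ (f * 2) := by rw [hk]; exact dvd_pow_self c k.ne_zero
    have h3 := (Nat.prime_dvd_prime_iff_eq hcp h.num.hp).1 (hcp.dvd_of_dvd_pow h2)
    exact h3 ▸ hc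
  refine ⟨⟨he, ?_, ?_, ?_, by omega⟩, h, hn, ?_, ?_⟩
  · intro x r hr hrR hx
    obtain ⟨y, hy⟩ := hT x
    rw [← hy] at hx ⊢
    exact h.iso_L hF y hr hrR hx
  · intro h2
    have := h.six_lt Nat.prime_two h2
    omega
  · intro h2
    have := h.six_lt Nat.prime_three h2
    omega
  · intro x
    obtain ⟨y, hy⟩ := hT x
    rw [← hy]
    have hp2 : p ≠ 2 := by
      have := h.num.p3
      omega
    exact window hq hp2 h.num.q3 h.num.hn h7 y
  · intro r hr hrT
    have hrf := Fact.mk hr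
    obtain ⟨x, hx⟩ := exists_prime_orderOf_dvd_card' (G := T) r hrT
    obtain ⟨y, hy⟩ := hT x
    have hrL : r ∣ Nat.card (PSU n F q) := by
      rw [← hx, ← hy]; exact orderOf_dvd_natCard y
    have h1 := Cfsg.Agent.S0280.result (F := F) (q := q) hF n (by omega)
    have h2 : r ∣ q ^ (n * (n - 1) / 2) * ∏ i ∈ Finset.range n, (if Even i then q ^ (i + 1) + 1 else q ^ (i + 1) - 1) := by
      rw [← h1]
      exact (hrL.mul_left _).mul_left _
    rcases (hr.dvd_mul).1 h2 with h3 | h3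
    · left
      have h4 := hr.dvd_of_dvd_pow h3
      rw [hq] at h4
      exact (Nat.prime_dvd_prime_iff_eq hr h.num.hp).1 (hr.dvd_of_dvd_pow h4)
    · right
      obtain ⟨i, hi, h4⟩ := (Prime.dvd_finset_prod_iff (Nat.prime_iff.1 hr) _).1 h3
      rw [Finset.mem_range] at hi
      refine ⟨i + 1, by omega, by omega, ?_⟩
      split_ifs at h4 with he
      · have h5 : (r : ℤ) ∣ ((q ^ (i + 1) + 1 : ℕ) : ℤ) := Int.natCast_dvd_natCast.2 h4
        rw [(he.add_one).neg_pow]
        push_cast at h5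
        have h6 : -(q : ℤ) ^ (i + 1) - 1 = -((q : ℤ) ^ (i + 1) + 1) := by ring
        rw [h6, dvd_neg]
        exact h5
      · have h5 : (r : ℤ) ∣ ((q ^ (i + 1) - 1 : ℕ) : ℤ) := Int.natCast_dvd_natCast.2 h4
        rw [Nat.cast_sub (Nat.one_le_pow _ _ (by have := h.num.q3; omega))] at h5
        push_cast at h5
        have he' : Even (i + 1) := by
          rw [Nat.not_even_iff_odd] at he
          exact he.add_one
        rw [he'.neg_pow]
        exact h5

end L

end Cfsg.Agent.H437.Win
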