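import Cfsg.Agent.H437.Win.Minus

/-!
# `PSL_3(u)`, `PSU_3(u)`: only `q = 3`
-/

set_option autoImplicit false

namespace Cfsg.Agent.H437.Win

variable {p q n R w : ℕ}

/-- the quadratic equation of `PSU_3` -/
theorem quadU {q z w g : ℤ} (hq : 3 ≤ q) (hz : q ^ 3 ≤ z) (hg : g = 1 ∨ g = 3) (hw2 : 2 * w ≤ (q + 1) ^ 2)
    (hw : w = q + 1 ∨ 7 * (q + 1) ≤ w)
    (heq : (g * ((q - 1) * z - 2)) ^ 2 + 3 * w * (g * ((q - 1) * z - 2)) + 3 * w ^ 2 = w * g * (q * z ^ 2 + 1)) :
    q = 3 ∧ w = 4 ∧ g = 3 := by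
  have hid : z ^ 2 * g * (g * (q - 1) ^ 2 - w * q) + (3 * w - 4 * g) * (g * (q - 1) * z + w - g) = 0 := by
    linear_combination heq
  have hg0 : 0 < g := by rcases hg with h | h <;> omega
  have hg3 : g ≤ 3 := by rcases hg with h | h <;> omega
  have hw4 : 4 ≤ w := by rcases hw with h | h <;> omega
  have hz0 : 27 ≤ z := by
    have : (3 : ℤ) ^ 3 ≤ q ^ 3 := pow_le_pow_left₀ (by norm_num) hq 3
    norm_num at this
    omega
  by_cases h34 : 3 * w = 4 * g
  · have hg3' : g = 3 := by omega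
    have hw' : w = 4 := by omega
    subst hg3' hw'
    have h1 : z ^ 2 * (3 * (3 * (q - 1) ^ 2 - 4 * q)) = 0 := by linear_combination hid
    have h2 : 3 * (3 * (q - 1) ^ 2 - 4 * q) = 0 := by
      rcases mul_eq_zero.1 h1 with h3 | h3
      · have : 0 < z ^ 2 := by positivity
        omega
      · exact h3
    have h2' : 3 * (q - 1) ^ 2 - 4 * q = 0 := by linarith
    have h3 : (q - 3) * (3 * q - 1) = 0 := by linear_combination h2'
    rcases mul_eq_zero.1 h3 with h4 | h4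
    · exact ⟨by omega, rfl, rfl⟩
    · omega
  · exfalso
    have h1 : 0 < 3 * w - 4 * g := by
      rcases hg with h | h <;> omega
    -- `g (-D) z² = (3w - 4g)(g (q-1) z + w - g) ≤ 3 w g ((q - 1) z + w)`
    have h2 : z ^ 2 * (w * q - g * (q - 1) ^ 2) ≤ 3 * w * ((q - 1) * z + w) := by
      have h3 : g * (z ^ 2 * (w * q - g * (q - 1) ^ 2)) = (3 * w - 4 * g) * (g * (q - 1) * z + w - g) := by
        linear_combination -hid
      have h4 : (3 * w - 4 * g) * (g * (q - 1) * z + w - g) ≤ (3 * w) * (g * ((q - 1) * z + w)) := by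
        have h5 : 0 ≤ g * (q - 1) * z + w - g := by
          have : 0 ≤ g * (q - 1) * z := mul_nonneg (mul_nonneg hg0.le (by omega)) (by omega)
          omega
        have h6 : g * (q - 1) * z + w - g ≤ g * ((q - 1) * z + w) := by
          have h7 : 0 ≤ (g - 1) * w := mul_nonneg (by omega) (by omega)
          linarith
        calc (3 * w - 4 * g) * (g * (q - 1) * z + w - g) ≤ (3 * w) * (g * (q - 1) * z + w - g) :=
              mul_le_mul_of_nonneg_right (by omega) h5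
          _ ≤ _ := mul_le_mul_of_nonneg_left h6 (by omega)
      have h5 : g * (z ^ 2 * (w * q - g * (q - 1) ^ 2)) ≤ g * (3 * w * ((q - 1) * z + w)) := by
        calc _ = _ := h3
          _ ≤ _ := h4
          _ = _ := by ring
      exact le_of_mul_le_mul_left h5 hg0
    rcases hw with hw | hw
    · -- `w = q + 1`
      subst hw
      have hD : 1 ≤ (q + 1) * q - g * (q - 1) ^ 2 := by
        have h3 : 0 < (q + 1) * q - g * (q - 1) ^ 2 := by
          by_contra hcon
          have h4 : (3 * (q + 1) - 4 * g) * (g * (q - 1) * z + (q + 1) - g) ≤ 0 := by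
            have h5 : 0 ≤ z ^ 2 * g * (g * (q - 1) ^ 2 - (q + 1) * q) := by
              refine mul_nonneg (by positivity) (by omega)
            linarith
          have h5 : 0 < g * (q - 1) * z + (q + 1) - g := by
            have : 0 < g * (q - 1) * z := mul_pos (mul_pos hg0 (by omega)) (by omega)
            omega
          have := mul_pos h1 h5
          omega
        omega
      have h3 : z ^ 2 ≤ 3 * (q + 1) * ((q - 1) * z + (q + 1)) := by
        refine le_trans ?_ h2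
        have : z ^ 2 * 1 ≤ z ^ 2 * ((q + 1) * q - g * (q - 1) ^ 2) := mul_le_mul_of_nonneg_left hD (by positivity)
        linarith
      have h4 : 3 * q ^ 2 ≤ z := by
        refine le_trans ?_ hz
        calc 3 * q ^ 2 ≤ q * q ^ 2 := mul_le_mul_of_nonneg_right hq (by positivity)
          _ = _ := by ring
      have h5 : 3 * q ^ 2 * z ≤ z ^ 2 := by
        calc 3 * q ^ 2 * z ≤ z * z := mul_le_mul_of_nonneg_right h4 (by omega)
          _ = _ := by ring
      have h6 : (q + 1) ^ 2 < z := by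
        have : (q + 1) ^ 2 < 3 * q ^ 2 := by nlinarith
        linarith
      nlinarith
    · have hD : 4 * q ^ 2 ≤ w * q - g * (q - 1) ^ 2 := by
        have h3 : 7 * (q + 1) * q ≤ w * q := mul_le_mul_of_nonneg_right hw (by omega)
        have h4 : g * (q - 1) ^ 2 ≤ 3 * (q - 1) ^ 2 := mul_le_mul_of_nonneg_right hg3 (by positivity)
        nlinarith
      have h3 : z ^ 2 * (4 * q ^ 2) ≤ 3 * w * ((q - 1) * z + w) :=
        (mul_le_mul_of_nonneg_left hD (by positivity)).trans h2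
      have hwq : 9 * w ≤ 8 * q ^ 2 := by nlinarith
      have h4 : (q - 1) * z + w ≤ q * z := by
        have h6 : q ^ 2 ≤ q ^ 3 := by
          calc q ^ 2 = 1 * q ^ 2 := by ring
            _ ≤ q * q ^ 2 := mul_le_mul_of_nonneg_right (by omega) (by positivity)
            _ = _ := by ring
        have : w ≤ z := by linarith
        linarith
      have h5 : 3 * w * ((q - 1) * z + w) ≤ 3 * w * (q * z) := mul_le_mul_of_nonneg_left h4 (by omega)
      have h6 : 3 * w * (q * z) ≤ 3 * q ^ 2 * (q * z) :=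
        mul_le_mul_of_nonneg_right (by linarith [sq_nonneg q]) (mul_nonneg (by omega) (by omega))
      have h7 : z ^ 2 * (4 * q ^ 2) ≤ (3 * q) * (z * q ^ 2) := by
        calc _ ≤ _ := h3
          _ ≤ _ := h5
          _ ≤ _ := h6
          _ = _ := by ring
      have h8 : (4 * z) * (z * q ^ 2) ≤ (3 * q) * (z * q ^ 2) := by
        calc _ = z ^ 2 * (4 * q ^ 2) := by ring
          _ ≤ _ := h7
      have h9 : 4 * z ≤ 3 * q := le_of_mul_le_mul_right h8 (by positivity)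
      have h10 : q ≤ q ^ 3 := by
        calc q = 1 * q := by ring
          _ ≤ q ^ 2 * q := mul_le_mul_of_nonneg_right (by nlinarith) (by omega)
          _ = _ := by ring
      omega

/-- the quadratic equation of `PSL_3` -/
theorem quadL {q z w g : ℤ} (hq : 3 ≤ q) (hz : q ^ 3 ≤ z) (hg : g = 1 ∨ g = 3) (hw2 : 2 * w ≤ (q + 1) ^ 2)
    (hw : w = q + 1 ∨ 7 * (q + 1) ≤ w)
    (heq : (g * ((q - 1) * z + 2)) ^ 2 - 3 * w * (g * ((q - 1) * z + 2)) + 3 * w ^ 2 = w * g * (q * z ^ 2 + 1)) :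
    q = 3 ∧ w = 4 ∧ g = 3 := by
  have hid : z ^ 2 * g * (g * (q - 1) ^ 2 - w * q) - (3 * w - 4 * g) * (g * (q - 1) * z - (w - g)) = 0 := by
    linear_combination heq
  have hg0 : 0 < g := by rcases hg with h | h <;> omega
  have hg3 : g ≤ 3 := by rcases hg with h | h <;> omega
  have hw4 : 4 ≤ w := by rcases hw with h | h <;> omega
  have hz0 : 27 ≤ z := by
    have : (3 : ℤ) ^ 3 ≤ q ^ 3 := pow_le_pow_left₀ (by norm_num) hq 3
    norm_num at this
    omega
  by_cases h34 : 3 * w = 4 * g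
  · have hg3' : g = 3 := by omega
    have hw' : w = 4 := by omega
    subst hg3' hw'
    have h1 : z ^ 2 * (3 * (3 * (q - 1) ^ 2 - 4 * q)) = 0 := by linear_combination hid
    have h2 : 3 * (3 * (q - 1) ^ 2 - 4 * q) = 0 := by
      rcases mul_eq_zero.1 h1 with h3 | h3
      · have : 0 < z ^ 2 := by positivity
        omega
      · exact h3
    have h2' : 3 * (q - 1) ^ 2 - 4 * q = 0 := by linarith
    have h3 : (q - 3) * (3 * q - 1) = 0 := by linear_combination h2'
    rcases mul_eq_zero.1 h3 with h4 | h4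
    · exact ⟨by omega, rfl, rfl⟩
    · omega
  · exfalso
    have h1 : 0 < 3 * w - 4 * g := by
      rcases hg with h | h <;> omega
    -- `w ≤ z`
    have hqz : q ^ 2 ≤ z := by
      refine le_trans ?_ hz
      calc q ^ 2 = 1 * q ^ 2 := by ring
        _ ≤ q * q ^ 2 := mul_le_mul_of_nonneg_right (by omega) (by positivity)
        _ = _ := by ring
    have hwz : w ≤ z := by nlinarith
    have h5 : 0 < g * (q - 1) * z - (w - g) := by
      have h6 : 1 * 2 ≤ g * (q - 1) := mul_le_mul (by omega) (by omega) (by norm_num) hg0.le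
      have h7 : 2 * z ≤ g * (q - 1) * z := mul_le_mul_of_nonneg_right (by omega) (by omega)
      omega
    have hD : 0 < g * (q - 1) ^ 2 - w * q := by
      by_contra hcon
      have h6 : z ^ 2 * g * (g * (q - 1) ^ 2 - w * q) ≤ 0 := mul_nonpos_of_nonneg_of_nonpos (by positivity) (by omega)
      have := mul_pos h1 h5
      omega
    have hwq : w = q + 1 := by
      rcases hw with h | h
      · exact h
      · exfalso
        have h6 : 7 * (q + 1) * q ≤ w * q := mul_le_mul_of_nonneg_right h (by omega)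
        have h7 : g * (q - 1) ^ 2 ≤ 3 * (q - 1) ^ 2 := mul_le_mul_of_nonneg_right hg3 (by positivity)
        nlinarith
    subst hwq
    -- `z² g D ≤ 3 (q + 1) g (q - 1) z`
    have h6 : z ^ 2 * g ≤ z ^ 2 * g * (g * (q - 1) ^ 2 - (q + 1) * q) := by
      have : z ^ 2 * g * 1 ≤ z ^ 2 * g * (g * (q - 1) ^ 2 - (q + 1) * q) :=
        mul_le_mul_of_nonneg_left (by omega) (by positivity)
      linarith
    have h7 : (3 * (q + 1) - 4 * g) * (g * (q - 1) * z - ((q + 1) - g)) ≤ (3 * (q + 1)) * (g * (q - 1) * z) := by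
      calc _ ≤ (3 * (q + 1)) * (g * (q - 1) * z - ((q + 1) - g)) := mul_le_mul_of_nonneg_right (by omega) h5.le
        _ ≤ _ := mul_le_mul_of_nonneg_left (by omega) (by omega)
    have h8 : (g * z) * z ≤ (g * z) * (3 * (q ^ 2 - 1)) := by
      calc (g * z) * z = z ^ 2 * g := by ring
        _ ≤ _ := h6
        _ ≤ (3 * (q + 1)) * (g * (q - 1) * z) := by linarith
        _ = _ := by ring
    have h9 : z ≤ 3 * (q ^ 2 - 1) := le_of_mul_le_mul_left h8 (mul_pos hg0 (by omega))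
    have h10 : 3 * q ^ 2 ≤ q ^ 3 := by
      calc 3 * q ^ 2 ≤ q * q ^ 2 := mul_le_mul_of_nonneg_right hq (by positivity)
        _ = _ := by ring
    omega

namespace Ctx

variable (h : Ctx p q n R w)

include h

theorem w_or : (w : ℤ) = q + 1 ∨ 7 * ((q : ℤ) + 1) ≤ w := by
  rcases h.num.gcd_cases with h1 | ⟨h1, h2⟩
  · left
    rw [h.hw, h1]
    push_cast
    ring
  · right
    rw [h.hw, h1]
    have := h.num.h7
    push_cast
    have h3 : (7 : ℤ) ≤ n := by exact_mod_cast this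
    exact mul_le_mul_of_nonneg_right h3 (by omega)

/-- **`PSU_3(u)`** -/
theorem uThree {u g E : ℕ} (hg : g = 1 ∨ g = 3) (hu : 3 ≤ u) (hK : (R : ℤ) * g = (u : ℤ) ^ 2 - u + 1)
    (hE : (E : ℤ) * g = (u : ℤ) ^ 2 - 1) (hS : Spec p q n (w * ((E : ℤ) - R))) :
    q = 3 ∧ ∃ e : ℕ, Even e ∧ n + 1 = 2 * e ∧ 2 * u = 3 ^ e + 1 := by
  have hq3 := h.num.q3
  have hq3Z : (3 : ℤ) ≤ q := by exact_mod_cast hq3
  have hw := h.wpos
  have hw2 : (2 : ℤ) * w ≤ ((q : ℤ) + 1) ^ 2 := by exact_mod_cast h.w2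
  have hgZ : (g : ℤ) = 1 ∨ (g : ℤ) = 3 := by
    rcases hg with h1 | h1
    · left; exact_mod_cast h1
    · right; exact_mod_cast h1
  have hg0 : (0 : ℤ) < g := by rcases hgZ with h1 | h1 <;> omega
  have huZ : (3 : ℤ) ≤ u := by exact_mod_cast hu
  set X : ℤ := w * ((E : ℤ) - R) with hX
  set A : ℤ := (q : ℤ) ^ n + 1 with hA
  have hA0 : 0 < A := by rw [hA]; positivity
  have hRA : (R : ℤ) * w = A := h.hRZ
  have e1 : g * X = w * ((u : ℤ) - 2) := by
    rw [hX]
    linear_combination (w : ℤ) * hE - (w : ℤ) * hK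
  have e2 : g * A = w * ((u : ℤ) ^ 2 - u + 1) := by
    rw [← hRA]
    linear_combination (w : ℤ) * hK
  have e3 : (g * X) ^ 2 + 3 * w * (g * X) + 3 * (w : ℤ) ^ 2 = w * g * A := by
    rw [e1]
    linear_combination -(w : ℤ) * e2
  have hXpos : 0 < X := by
    have h1 : 0 < (g : ℤ) * X := by
      rw [e1]
      exact mul_pos hw (by omega)
    exact (mul_pos_iff_of_pos_left hg0).1 h1
  have hbnd : g * X ^ 2 ≤ w * A := by
    have h1 : g * (g * X ^ 2) ≤ g * (w * A) := by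
      have h2 : 0 ≤ 3 * w * (g * X) := by positivity
      have h3 : 0 ≤ 3 * (w : ℤ) ^ 2 := by positivity
      linarith
    exact le_of_mul_le_mul_left h1 hg0
  have hbnd2 : 2 * X ^ 2 ≤ ((q : ℤ) + 1) ^ 2 * A := by
    have h1 : X ^ 2 ≤ g * X ^ 2 := by
      have : 0 ≤ ((g : ℤ) - 1) * X ^ 2 := mul_nonneg (by omega) (by positivity)
      linarith
    have h2 : 2 * w * A ≤ ((q : ℤ) + 1) ^ 2 * A := mul_le_mul_of_nonneg_right hw2 hA0.le
    linarith
  have hq1 : ((q : ℤ) + 1) ^ 2 * A ≤ 2 * (q : ℤ) ^ (n + 2) := by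
    have h1 : ((q : ℤ) + 1) ^ 2 * 9 ≤ 16 * (q : ℤ) ^ 2 := by nlinarith
    have h2 : (9 : ℤ) ≤ (q : ℤ) ^ n := zpow_nine' h.num (by have := h.num.h7; omega)
    have h3 : 9 * A ≤ 10 * (q : ℤ) ^ n := by rw [hA]; linarith
    have h4 : (((q : ℤ) + 1) ^ 2 * 9) * (9 * A) ≤ (16 * (q : ℤ) ^ 2) * (10 * (q : ℤ) ^ n) :=
      mul_le_mul h1 h3 (by positivity) (by positivity)
    have h5 : (q : ℤ) ^ (n + 2) = (q : ℤ) ^ 2 * (q : ℤ) ^ n := by ring
    have h6 : 0 < (q : ℤ) ^ 2 * (q : ℤ) ^ n := by positivity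
    rw [h5]
    linarith
  obtain ⟨a, ha, ha1, ha2, hcase⟩ := hS.pos_cases h.num hXpos.le
  rcases hcase with hc | ⟨han, hqp, hc⟩
  swap
  · exfalso
    have h1 : (q : ℤ) ^ (n - 1) ≤ X := by
      rw [hc]
      have : 0 < (q : ℤ) ^ 2 := by positivity
      linarith
    have h2 : ((q : ℤ) ^ (n - 1)) ^ 2 ≤ X ^ 2 := pow_le_pow_left₀ (by positivity) h1 2
    have h3 : (q : ℤ) ^ (n + 2) ≤ ((q : ℤ) ^ (n - 1)) ^ 2 := by
      rw [← pow_mul]
      exact zpow_mono h.num (by have := h.num.h7; omega)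
    have h4 : (q : ℤ) ^ (n + 3) ≤ ((q : ℤ) ^ (n - 1)) ^ 2 := by
      rw [← pow_mul]
      exact zpow_mono h.num (by have := h.num.h7; omega)
    have h5 := zpow_three h.num (i := n + 2) (j := n + 3) le_rfl
    have h6 := zpow_pos h.num (n + 2)
    linarith
  · have h2a : 2 * a = n + 1 := by
      by_contra hcon
      have h1 : n + 3 ≤ 2 * a := by
        rcases h.num.nodd with ⟨k, hk⟩
        omega
      have h2 : 27 * (q : ℤ) ^ (n - a) ≤ (q : ℤ) ^ a := by
        have h3 := zpow_nine h.num (i := n - a) (j := n - a + 2) le_rfl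
        have h4 := zpow_three h.num (i := n - a + 2) (j := a) (by omega)
        linarith
      have h5 : (q : ℤ) ^ 5 ≤ (q : ℤ) ^ a := zpow_mono h.num (by have := h.num.h7; omega)
      have h6 : (243 : ℤ) ≤ (q : ℤ) ^ 5 := by
        have : (3 : ℤ) ^ 5 ≤ (q : ℤ) ^ 5 := pow_le_pow_left₀ (by norm_num) hq3Z 5
        norm_num at this
        exact this
      have h7 : 9 * (q : ℤ) ^ a ≤ 10 * X := by rw [hc]; linarith
      have h8 : (9 * (q : ℤ) ^ a) ^ 2 ≤ (10 * X) ^ 2 := pow_le_pow_left₀ (by positivity) h7 2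
      have h9 : (q : ℤ) ^ (n + 3) ≤ ((q : ℤ) ^ a) ^ 2 := by
        rw [← pow_mul]
        exact zpow_mono h.num (by omega)
      have h10 := zpow_three h.num (i := n + 2) (j := n + 3) le_rfl
      have h11 := zpow_pos h.num (n + 2)
      have h12 : (9 * (q : ℤ) ^ a) ^ 2 = 81 * ((q : ℤ) ^ a) ^ 2 := by ring
      have h13 : (10 * X) ^ 2 = 100 * X ^ 2 := by ring
      linarith
    obtain ⟨b, hb⟩ : ∃ b, a = b + 1 := ⟨a - 1, by omega⟩
    have hna : n - a = b := by omega
    have hn2 : n = 2 * b + 1 := by omega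
    have hb3 : 3 ≤ b := by have := h.num.h7; omega
    set z : ℤ := (q : ℤ) ^ b with hz
    have hXz : X = ((q : ℤ) - 1) * z - 2 := by
      rw [hc, hna, hb, hz]
      ring
    have hAz : A = q * z ^ 2 + 1 := by
      rw [hA, hn2, hz]
      ring
    have hz3 : (q : ℤ) ^ 3 ≤ z := zpow_mono h.num hb3
    have hres := quadU (q := q) (z := z) (w := w) (g := g) hq3Z hz3 hgZ hw2 h.w_or (by rw [← hXz, ← hAz]; exact e3)
    obtain ⟨h1, h2, h3⟩ := hres
    have hq' : q = 3 := by exact_mod_cast h1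
    refine ⟨hq', a, ha, h2a.symm, ?_⟩
    rw [h2, h3, hXz, h1] at e1
    have h4 : z = 3 ^ b := by rw [hz, h1]
    have h5 : (2 : ℤ) * u = 3 ^ a + 1 := by
      rw [hb, pow_succ, ← h4]
      linarith
    exact_mod_cast h5

/-- **`PSL_3(u)`** -/
theorem lThree {u g E : ℕ} (hg : g = 1 ∨ g = 3) (hK : (R : ℤ) * g = (u : ℤ) ^ 2 + u + 1)
    (hE : (E : ℤ) * g = (u : ℤ) ^ 2 - 1) (hS : Spec p q n (w * ((E : ℤ) - R))) :
    q = 3 ∧ ∃ e : ℕ, Odd e ∧ n + 1 = 2 * e ∧ 2 * u + 1 = 3 ^ e := by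
  have hq3 := h.num.q3
  have hq3Z : (3 : ℤ) ≤ q := by exact_mod_cast hq3
  have hw := h.wpos
  have hw2 : (2 : ℤ) * w ≤ ((q : ℤ) + 1) ^ 2 := by exact_mod_cast h.w2
  have hgZ : (g : ℤ) = 1 ∨ (g : ℤ) = 3 := by
    rcases hg with h1 | h1
    · left; exact_mod_cast h1
    · right; exact_mod_cast h1
  have hg0 : (0 : ℤ) < g := by rcases hgZ with h1 | h1 <;> omega
  set Y : ℤ := -(w * ((E : ℤ) - R)) with hY
  set A : ℤ := (q : ℤ) ^ n + 1 with hA
  have hA0 : 0 < A := by rw [hA]; positivity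
  have hRA : (R : ℤ) * w = A := h.hRZ
  have e1 : g * Y = w * ((u : ℤ) + 2) := by
    rw [hY]
    linear_combination -(w : ℤ) * hE + (w : ℤ) * hK
  have e2 : g * A = w * ((u : ℤ) ^ 2 + u + 1) := by
    rw [← hRA]
    linear_combination (w : ℤ) * hK
  have e3 : (g * Y) ^ 2 - 3 * w * (g * Y) + 3 * (w : ℤ) ^ 2 = w * g * A := by
    rw [e1]
    linear_combination -(w : ℤ) * e2
  have hYpos : 0 < Y := by
    have h1 : 0 < (g : ℤ) * Y := by
      rw [e1]
      exact mul_pos hw (by omega)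
    exact (mul_pos_iff_of_pos_left hg0).1 h1
  have hbnd : g * Y ^ 2 ≤ w * A + 3 * w * Y := by
    have h1 : g * (g * Y ^ 2) ≤ g * (w * A + 3 * w * Y) := by
      have h3 : 0 ≤ 3 * (w : ℤ) ^ 2 := by positivity
      linarith
    exact le_of_mul_le_mul_left h1 hg0
  have hXneg : (w : ℤ) * ((E : ℤ) - R) ≤ 0 := by omega
  obtain ⟨b, hb, hb1, hb2, hc⟩ := hS.neg_cases h.num hXneg
  have hYc : Y = (q : ℤ) ^ b - (q : ℤ) ^ (n - b) + 2 := by rw [hY, hc]; ring
  have h2b : 2 * b = n + 1 := by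
    by_contra hcon
    have h1 : n + 3 ≤ 2 * b := by
      rcases h.num.nodd with ⟨k, hk⟩
      omega
    have h2 : 27 * (q : ℤ) ^ (n - b) ≤ (q : ℤ) ^ b := by
      have h3 := zpow_nine h.num (i := n - b) (j := n - b + 2) le_rfl
      have h4 := zpow_three h.num (i := n - b + 2) (j := b) (by omega)
      linarith
    have h7 : 9 * (q : ℤ) ^ b ≤ 10 * Y := by
      rw [hYc]
      have := zpow_pos h.num b
      linarith
    have h8 : (9 * (q : ℤ) ^ b) ^ 2 ≤ (10 * Y) ^ 2 := pow_le_pow_left₀ (by positivity) h7 2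
    have h9 : (q : ℤ) ^ (n + 3) ≤ ((q : ℤ) ^ b) ^ 2 := by
      rw [← pow_mul]
      exact zpow_mono h.num (by omega)
    have h10 := zpow_three h.num (i := n + 2) (j := n + 3) le_rfl
    have h10' := zpow_nine h.num (i := n) (j := n + 2) le_rfl
    have h11 := zpow_pos h.num n
    have hYb : Y ≤ (q : ℤ) ^ b := by
      rw [hYc]
      have := zpow_nine' h.num (i := n - b) (by omega)
      linarith
    have hYn : 9 * Y ≤ (q : ℤ) ^ n := by
      have := zpow_nine h.num (i := b) (j := n) hb2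
      linarith
    have h12 : (9 * (q : ℤ) ^ b) ^ 2 = 81 * ((q : ℤ) ^ b) ^ 2 := by ring
    have h13 : (10 * Y) ^ 2 = 100 * Y ^ 2 := by ring
    have h14 : Y ^ 2 ≤ g * Y ^ 2 := by
      have : 0 ≤ ((g : ℤ) - 1) * Y ^ 2 := mul_nonneg (by omega) (by positivity)
      linarith
    have h15 : 9 * ((q : ℤ) + 1) ^ 2 ≤ 16 * (q : ℤ) ^ 2 := by nlinarith
    have h16 : 18 * (w : ℤ) ≤ 16 * (q : ℤ) ^ 2 := by linarith
    -- `2 (w A + 3 w Y) ≤ ...`
    have h17 : (9 : ℤ) ≤ (q : ℤ) ^ n := zpow_nine' h.num (by have := h.num.h7; omega)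
    have h18 : 9 * (A + 3 * Y) ≤ 13 * (q : ℤ) ^ n := by rw [hA]; linarith
    have h19 : (18 * (w : ℤ)) * (9 * (A + 3 * Y)) ≤ (16 * (q : ℤ) ^ 2) * (13 * (q : ℤ) ^ n) :=
      mul_le_mul h16 h18 (by positivity) (by positivity)
    have h20 : (q : ℤ) ^ (n + 2) = (q : ℤ) ^ 2 * (q : ℤ) ^ n := by ring
    have h21 : 0 < (q : ℤ) ^ 2 * (q : ℤ) ^ n := by positivity
    rw [h20] at h10 h10'
    have h22 : (18 * (w : ℤ)) * (9 * (A + 3 * Y)) = 162 * (w * A + 3 * w * Y) := by ring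
    linarith
  obtain ⟨c, hc'⟩ : ∃ c, b = c + 1 := ⟨b - 1, by omega⟩
  have hna : n - b = c := by omega
  have hn2 : n = 2 * c + 1 := by omega
  have hb3 : 3 ≤ c := by have := h.num.h7; omega
  set z : ℤ := (q : ℤ) ^ c with hz
  have hYz : Y = ((q : ℤ) - 1) * z + 2 := by
    rw [hYc, hna, hc', hz]
    ring
  have hAz : A = q * z ^ 2 + 1 := by
    rw [hA, hn2, hz]
    ring
  have hz3 : (q : ℤ) ^ 3 ≤ z := zpow_mono h.num hb3
  have hres := quadL (q := q) (z := z) (w := w) (g := g) hq3Z hz3 hgZ hw2 h.w_or (by rw [← hYz, ← hAz]; exact e3)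
  obtain ⟨h1, h2, h3⟩ := hres
  have hq' : q = 3 := by exact_mod_cast h1
  refine ⟨hq', b, hb, h2b.symm, ?_⟩
  rw [h2, h3, hYz, h1] at e1
  have h4 : z = 3 ^ c := by rw [hz, h1]
  have h5 : (2 : ℤ) * u + 1 = 3 ^ b := by
    rw [hc', pow_succ, ← h4]
    linarith
  exact_mod_cast h5

end Ctx

end Cfsg.Agent.H437.Win
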