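import Cfsg.Agent.H437.Win.Bounds

/-!
# `²D_m(u)`, `m` even, `u` odd
-/

set_option autoImplicit false

namespace Cfsg.Agent.H437.Win

variable {p q n R w : ℕ}

namespace Ctx

variable (h : Ctx p q n R w)

include h

/-- the exceptional pairs `(q, n)` -/
theorem gen_or : 2 * (Nat.gcd n (q + 1) * (q + 1) ^ 2) < q ^ 3 ∨ (q = 3 ∧ w = 4) ∨ (q + 1 = 2 * n ∧ w = n * (q + 1)) := by
  have h3 := h.num.q3
  have h7 := h.num.h7
  rcases h.num.gcd_cases with h1 | ⟨h1, h2⟩
  · rcases h.num.q35 with h4 | h4
    · right; left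
      refine ⟨h4, ?_⟩
      rw [h.hw, h1, h4]
    · left
      rw [h1]
      obtain ⟨t, rfl⟩ : ∃ t, q = t + 5 := ⟨q - 5, by omega⟩
      nlinarith [Nat.zero_le t, Nat.zero_le (t * t), Nat.zero_le (t * t * t)]
  · have h4 : n ∣ q + 1 := by
      rw [← h1]; exact Nat.gcd_dvd_right _ _
    have h5 : 2 ∣ q + 1 := (h.num.hodd.add_odd odd_one).two_dvd
    have h6 : 2 * n ∣ q + 1 := Nat.Coprime.mul_dvd_of_dvd_of_dvd (Nat.coprime_two_left.2 h.num.nodd) h5 h4
    obtain ⟨k, hk⟩ := h6
    rcases Nat.lt_or_ge k 2 with hk2 | hk2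
    · right; right
      have hk1 : k = 1 := by
        rcases Nat.eq_zero_or_pos k with h0 | h0
        · rw [h0] at hk; omega
        · omega
      rw [hk1, mul_one] at hk
      exact ⟨hk, by rw [h.hw, h1]⟩
    · left
      have h8 : 4 * n ≤ q + 1 := by
        rw [hk]
        calc 4 * n = 2 * n * 2 := by ring
          _ ≤ _ := Nat.mul_le_mul_left _ hk2
      rw [h1]
      have h9 : 2 * (2 * (n * (q + 1) ^ 2)) ≤ (q + 1) ^ 3 := by
        calc 2 * (2 * (n * (q + 1) ^ 2)) = (4 * n) * (q + 1) ^ 2 := by ring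
          _ ≤ (q + 1) * (q + 1) ^ 2 := Nat.mul_le_mul_right _ h8
          _ = _ := by ring
      have h10 : (q + 1) ^ 3 < 2 * q ^ 3 := by
        obtain ⟨t, rfl⟩ : ∃ t, q = t + 27 := ⟨q - 27, by omega⟩
        nlinarith [Nat.zero_le t, Nat.zero_le (t * t), Nat.zero_le (t * t * t)]
      omega

/-- in the exceptional cases `2 R - 1` is not a square -/
theorem not_square (hn : n ∈ ({7, 11, 13, 17, 19, 23} : Finset ℕ))
    (hex : (q = 3 ∧ w = 4) ∨ (q + 1 = 2 * n ∧ w = n * (q + 1))) {s : ℕ} (hs : 2 * R = s ^ 2 + 1) : False := by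
  have hR := h.hR
  have key : ∀ t N : ℕ, 2 * R = N + 1 → t ^ 2 < N → N < (t + 1) ^ 2 → False := by
    intro t N h1 h2 h3
    exact not_sq_of (N := N) (t := s) h2 h3 (by omega)
  simp only [Finset.mem_insert, Finset.mem_singleton] at hn
  rcases hex with ⟨h1, h2⟩ | ⟨h1, h2⟩
  · subst h1
    rw [h2] at hR
    rcases hn with rfl | rfl | rfl | rfl | rfl | rfl
    · exact key 33 1093 (by omega) (by norm_num) (by norm_num)
    · exact key 297 88573 (by omega) (by norm_num) (by norm_num)
    · exact key 892 797161 (by omega) (by norm_num) (by norm_num)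
    · exact key 8035 64570081 (by omega) (by norm_num) (by norm_num)
    · exact key 24106 581130733 (by omega) (by norm_num) (by norm_num)
    · exact key 216959 47071589413 (by omega) (by norm_num) (by norm_num)
  · rcases hn with rfl | rfl | rfl | rfl | rfl | rfl
    · obtain rfl : q = 13 := by omega
      rw [h2] at hR
      norm_num at hR
      exact key 1131 1280581 (by omega) (by norm_num) (by norm_num)
    · obtain rfl : q = 21 := by omega
      rw [h2] at hR
      norm_num at hR
      exact key 1701427 2894855376381 (by omega) (by norm_num) (by norm_num)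
    · obtain rfl : q = 25 := by omega
      rw [h2] at hR
      norm_num at hR
      exact key 93900240 8817255144288553 (by omega) (by norm_num) (by norm_num)
    · obtain rfl : q = 33 := by omega
      rw [h2] at hR
      norm_num at hR
      exact key 475247200830 225859901897108799210465 (by omega) (by norm_num) (by norm_num)
    · obtain rfl : q = 37 := by omega
      rw [h2] at hR
      norm_num at hR
      exact key 41606652694624 1731113548451086226449521133 (by omega) (by norm_num) (by norm_num)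
    · obtain rfl : q = 45 := by omega
      rw [h2] at hR
      norm_num at hR
      exact key 446905883736181457 199724868918017338172451985580934693 (by omega) (by norm_num) (by norm_num)

/-- the `²D_m(u)` family, `m` even, `u` odd -/
theorem minusOdd (hn : n ∈ ({7, 11, 13, 17, 19, 23} : Finset ℕ)) {u m E : ℕ} (hu : 3 ≤ u) (hm : 4 ≤ m) (hme : Even m)
    (hne : ∀ b, 1 ≤ b → u ≠ q ^ b) (hK : 2 * R = u ^ m + 1) (hE : 4 * E = (u ^ (m - 1) - 1) * (u + 1))
    (hW : Wd p q n E) : False := by
  have hR0 := h.R547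
  rcases h.gen_or with hg | hex
  · -- the generic case
    obtain ⟨N, rfl⟩ : ∃ N, m = N + 1 := ⟨m - 1, by omega⟩
    rw [Nat.add_sub_cancel] at hE
    have h1N : 1 ≤ u ^ N := Nat.one_le_pow _ _ (by omega)
    have hN3 : u ^ 3 ≤ u ^ N := Nat.pow_le_pow_right (by omega) (by omega)
    have hu3 : 9 * u ≤ u ^ 3 := by
      calc 9 * u = 3 ^ 2 * u := by norm_num
        _ ≤ u ^ 2 * u := Nat.mul_le_mul_right _ (Nat.pow_le_pow_left hu 2)
        _ = _ := by ring
    have hup : u ^ (N + 1) = u * u ^ N := by ring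
    have h3N : 3 * u ^ N ≤ u ^ (N + 1) := by
      rw [hup]; exact Nat.mul_le_mul_right _ hu
    have hEx : 4 * E + u + 1 = u ^ (N + 1) + u ^ N := by
      obtain ⟨v, hv⟩ : ∃ v, u ^ N = v + 1 := ⟨u ^ N - 1, by omega⟩
      rw [hE, hup, hv, Nat.add_sub_cancel]
      ring
    have hE0 : 0 < E := by omega
    have h2E : R < 2 * E := by omega
    have h3E : 3 * E ≤ 2 * R := by omega
    rcases spec2 h.num hE0 hW (by rw [← h.hw]; exact h.hR) hg h2E with h1 | h1 | h1
    · omega
    · rw [← h.hw, h.X_eq] at h1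
      have := h.neg_bound h1 (by omega)
      omega
    · rw [← h.hw, h.X_eq] at h1
      refine h.uOdd (u := u) (M := N + 1) (K := 2) (E := 2 * E) (by omega) hne (by rw [mul_comm]; exact hK) ?_ h1
        (Or.inr ⟨hm, le_rfl⟩)
      rw [Nat.add_sub_cancel, ← hE]
      ring
  · obtain ⟨k, hk⟩ := hme
    refine h.not_square hn hex (s := u ^ k) ?_
    rw [hK, hk, ← pow_mul]
    ring_nf

end Ctx

end Cfsg.Agent.H437.Win
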