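import Cfsg.Agent.H437.Win.Spec2

/-!
# Special values: signs and ratios
-/

set_option autoImplicit false

namespace Cfsg.Agent.H437.Win

variable {p q n : ℕ}

theorem zpow_mono (h : Num p q n) {i j : ℕ} (hij : i ≤ j) : (q : ℤ) ^ i ≤ (q : ℤ) ^ j := by
  have := h.q3
  exact pow_le_pow_right₀ (by omega) hij

theorem zpow_three (h : Num p q n) {i j : ℕ} (hij : i + 1 ≤ j) : 3 * (q : ℤ) ^ i ≤ (q : ℤ) ^ j := by
  have h3 := h.q3
  have h1 := zpow_mono h hij
  have h2 : (0 : ℤ) < (q : ℤ) ^ i := pow_pos (by omega) _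
  have h4 : (3 : ℤ) * (q : ℤ) ^ i ≤ q * (q : ℤ) ^ i := mul_le_mul_of_nonneg_right (by exact_mod_cast h3) h2.le
  have h5 : (q : ℤ) ^ (i + 1) = q * (q : ℤ) ^ i := by ring
  linarith

theorem zpow_nine (h : Num p q n) {i j : ℕ} (hij : i + 2 ≤ j) : 9 * (q : ℤ) ^ i ≤ (q : ℤ) ^ j := by
  have h1 := zpow_three h (i := i) (j := i + 1) le_rfl
  have h2 := zpow_three h (i := i + 1) (j := j) hij
  linarith

theorem zpow_pos (h : Num p q n) (i : ℕ) : (0 : ℤ) < (q : ℤ) ^ i := by
  have h3 := h.q3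
  exact pow_pos (by omega) _

theorem zpow_nine' (h : Num p q n) {i : ℕ} (hi : 2 ≤ i) : (9 : ℤ) ≤ (q : ℤ) ^ i := by
  have := zpow_nine h (i := 0) (j := i) (by omega)
  simpa using this

/-- positive special values -/
theorem Spec.pos_cases (h : Num p q n) {X : ℤ} (hX : Spec p q n X) (h0 : 0 ≤ X) :
    ∃ a : ℕ, Even a ∧ n < 2 * a ∧ a + 1 ≤ n ∧
      (X = (q : ℤ) ^ a - (q : ℤ) ^ (n - a) - 2 ∨
        (a + 1 = n ∧ q = p ∧ X = (q : ℤ) ^ (n - 1) + (q : ℤ) ^ 2 + q - 1)) := by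
  have h7 := h.h7
  rcases hX with ⟨a, b, ha, hb, ha2, hb1, hab, hX⟩ | ⟨hqp, hX⟩
  · refine ⟨a, ha, ?_, by omega, Or.inl ?_⟩
    · by_contra hcon
      have h1 : a ≤ b := by omega
      have h2 := zpow_mono h h1
      omega
    · rw [show n - a = b by omega]; exact hX
  · refine ⟨n - 1, ?_, by omega, by omega, Or.inr ⟨by omega, hqp, hX⟩⟩
    rcases h.nodd with ⟨k, hk⟩
    exact ⟨k, by omega⟩

/-- negative special values -/
theorem Spec.neg_cases (h : Num p q n) {X : ℤ} (hX : Spec p q n X) (h0 : X ≤ 0) :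
    ∃ b : ℕ, Odd b ∧ n < 2 * b ∧ b + 2 ≤ n ∧ X = -((q : ℤ) ^ b - (q : ℤ) ^ (n - b) + 2) := by
  have h7 := h.h7
  have h3 := h.q3
  rcases hX with ⟨a, b, ha, hb, ha2, hb1, hab, hX⟩ | ⟨hqp, hX⟩
  · refine ⟨b, hb, ?_, by omega, ?_⟩
    · by_contra hcon
      have hne : a ≠ b := by
        rintro rfl
        exact (Nat.not_even_iff_odd.2 hb) ha
      have h1 : b + 1 ≤ a := by omega
      have h2 := zpow_three h h1
      have h4 : (3 : ℤ) ^ 1 ≤ (q : ℤ) ^ b := by
        calc (3 : ℤ) ^ 1 = 3 * (q : ℤ) ^ 0 := by norm_num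
          _ ≤ _ := zpow_three h hb1
      omega
    · rw [show n - b = a by omega, hX]; ring
  · exfalso
    have h1 := zpow_pos h (n - 1)
    have h2 := zpow_pos h 2
    omega

/-- the size of a positive special value -/
theorem Spec.pos_size (h : Num p q n) {X : ℤ} (hX : Spec p q n X) (h0 : 0 ≤ X) :
    ∃ a : ℕ, Even a ∧ n < 2 * a ∧ a + 1 ≤ n ∧ 2 * (q : ℤ) ^ a ≤ 3 * X + 6 ∧ X < (q : ℤ) ^ a + (q : ℤ) ^ 2 + q ∧
      (a + 3 ≤ n → X < (q : ℤ) ^ a) := by
  obtain ⟨a, h1, h2, h3, h4⟩ := hX.pos_cases h h0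
  have h5 := zpow_three h (i := n - a) (j := a) (by omega)
  have h6 := zpow_pos h (n - a)
  have h7 := zpow_pos h 2
  have h8 := zpow_pos h a
  have h9 : (0 : ℤ) ≤ q := by positivity
  have h10 := h.q3
  refine ⟨a, h1, h2, h3, ?_, ?_, ?_⟩
  · rcases h4 with h4 | ⟨h4, -, h11⟩
    · rw [h4]; linarith
    · rw [h11, show n - 1 = a by omega]; linarith
  · rcases h4 with h4 | ⟨h4, -, h11⟩
    · rw [h4]; omega
    · rw [h11, show n - 1 = a by omega]; linarith
  · intro h12
    rcases h4 with h4 | ⟨h4, -, h11⟩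
    · rw [h4]; omega
    · omega

/-- the size of a negative special value -/
theorem Spec.neg_size (h : Num p q n) {X : ℤ} (hX : Spec p q n X) (h0 : X ≤ 0) :
    ∃ b : ℕ, Odd b ∧ n < 2 * b ∧ b + 2 ≤ n ∧ 2 * (q : ℤ) ^ b + 6 ≤ 3 * (-X) ∧ -X + 7 ≤ (q : ℤ) ^ b := by
  obtain ⟨b, h1, h2, h3, h4⟩ := hX.neg_cases h h0
  have h5 := zpow_three h (i := n - b) (j := b) (by omega)
  have h6 := zpow_nine' h (i := n - b) (by omega)
  refine ⟨b, h1, h2, h3, ?_, ?_⟩ <;> rw [h4] <;> linarith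

theorem half_exp (h : Num p q n) {a : ℕ} (ha : n < 2 * a) : 4 ≤ a := by
  have := h.h7
  omega

/-- special values are not small -/
theorem Spec.not_tiny (h : Num p q n) {X : ℤ} (hX : Spec p q n X) : ((q : ℤ) + 1) ^ 2 < |X| := by
  have h3 := h.q3
  have h3' : (3 : ℤ) ≤ q := by exact_mod_cast h3
  have key : (3 : ℤ) * ((q : ℤ) + 1) ^ 2 + 6 < 2 * (q : ℤ) ^ 4 := by
    nlinarith [mul_nonneg (sub_nonneg.2 h3') (sub_nonneg.2 h3'), sq_nonneg ((q : ℤ) ^ 2 - 9), sq_nonneg ((q : ℤ) - 3)]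
  rcases le_total 0 X with h0 | h0
  · obtain ⟨a, -, h1, -, h2, -, -⟩ := hX.pos_size h h0
    have h4 := zpow_mono h (half_exp h h1)
    rw [abs_of_nonneg h0]
    linarith
  · obtain ⟨a, -, h1, -, h2, -⟩ := hX.neg_size h h0
    have h4 := zpow_mono h (half_exp h h1)
    rw [abs_of_nonpos h0]
    linarith

theorem Spec.ne_zero (h : Num p q n) {X : ℤ} (hX : Spec p q n X) : X ≠ 0 := by
  rintro rfl
  have := hX.not_tiny h
  rw [abs_zero] at this
  have h1 : (0 : ℤ) ≤ ((q : ℤ) + 1) ^ 2 := by positivity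
  omega

/-- two negative special values -/
theorem Spec.pair_neg (h : Num p q n) {X Y : ℤ} (hX : Spec p q n X) (hY : Spec p q n Y) (hXY : X < Y) (h0 : Y < 0) :
    3 * (-Y) < -X := by
  obtain ⟨b, hb, h1, h2, h3, h4⟩ := hX.neg_size h (by omega)
  obtain ⟨b', hb', h1', h2', h3', h4'⟩ := hY.neg_size h h0.le
  have hne : b ≠ b' := by
    rintro rfl
    obtain ⟨c, hc, e1, e2, e3⟩ := hX.neg_cases h (by omega)
    obtain ⟨c', hc', e1', e2', e3'⟩ := hY.neg_cases h h0.le
    -- the exponents agree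
    have hcb : ∀ {c : ℕ} {Z : ℤ}, n < 2 * c → c + 2 ≤ n → Odd c → Z = -((q : ℤ) ^ c - (q : ℤ) ^ (n - c) + 2) →
        2 * (q : ℤ) ^ b + 6 ≤ 3 * (-Z) → -Z + 7 ≤ (q : ℤ) ^ b → c = b := by
      intro c Z g1 g2 g3 g4 g5 g6
      have g7 := zpow_three h (i := n - c) (j := c) (by omega)
      have g8 := zpow_nine' h (i := n - c) (by omega)
      rcases lt_trichotomy c b with g | g | g
      · exfalso
        have g9 : c + 2 ≤ b := by
          rcases g3 with ⟨x, hx⟩
          rcases hb with ⟨y, hy⟩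
          omega
        have g10 := zpow_nine h g9
        have g11 := zpow_pos h c
        omega
      · exact g
      · exfalso
        have g9 : b + 2 ≤ c := by
          rcases g3 with ⟨x, hx⟩
          rcases hb with ⟨y, hy⟩
          omega
        have g10 := zpow_nine h g9
        have g11 := zpow_pos h b
        omega
    have k1 := hcb e1 e2 hc e3 h3 h4
    have k2 := hcb e1' e2' hc' e3' h3' h4'
    rw [k1] at e3
    rw [k2] at e3'
    rw [e3, e3'] at hXY
    exact lt_irrefl _ hXY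
  rcases lt_or_gt_of_ne hne with g | g
  · exfalso
    have g9 : b + 2 ≤ b' := by
      rcases hb with ⟨x, hx⟩
      rcases hb' with ⟨y, hy⟩
      omega
    have g10 := zpow_nine h g9
    have g11 := zpow_pos h b
    omega
  · have g9 : b' + 2 ≤ b := by
      rcases hb with ⟨x, hx⟩
      rcases hb' with ⟨y, hy⟩
      omega
    have g10 := zpow_nine h g9
    have g11 := zpow_pos h b'
    omega

/-- two positive special values -/
theorem Spec.pair_pos (h : Num p q n) {X Y : ℤ} (hX : Spec p q n X) (hY : Spec p q n Y) (hXY : Y < X) (h0 : 0 < Y) :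
    3 * Y < X ∨ (q = p ∧ Y = (q : ℤ) ^ (n - 1) - q - 2 ∧ X = (q : ℤ) ^ (n - 1) + (q : ℤ) ^ 2 + q - 1) := by
  have h7 := h.h7
  have h3 := h.q3
  obtain ⟨a, ha, e1, e2, e3⟩ := hX.pos_cases h (by omega)
  obtain ⟨a', ha', e1', e2', e3'⟩ := hY.pos_cases h h0.le
  have s1 := zpow_three h (i := n - a) (j := a) (by omega)
  have s1' := zpow_three h (i := n - a') (j := a') (by omega)
  have s2 := zpow_pos h (n - a)
  have s2' := zpow_pos h (n - a')
  have s3 := zpow_pos h 2
  have s4 : (0 : ℤ) ≤ q := by positivity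
  have hlow : 2 * (q : ℤ) ^ a ≤ 3 * X + 6 := by
    rcases e3 with e3 | ⟨e3, -, e4⟩
    · rw [e3]; linarith
    · rw [e4, show n - 1 = a by omega]; linarith
  have hlow' : 2 * (q : ℤ) ^ a' ≤ 3 * Y + 6 := by
    rcases e3' with e3' | ⟨e3', -, e4⟩
    · rw [e3']; linarith
    · rw [e4, show n - 1 = a' by omega]; linarith
  rcases lt_trichotomy a a' with g | g | g
  · exfalso
    have g9 : a + 2 ≤ a' := by
      rcases ha with ⟨x, hx⟩
      rcases ha' with ⟨y, hy⟩
      omega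
    have g10 := zpow_nine h g9
    have hup : X < (q : ℤ) ^ a := by
      rcases e3 with e3 | ⟨e3, -, e4⟩
      · rw [e3]; linarith
      · omega
    have g11 := zpow_pos h a
    have g12 := zpow_nine' h (i := a) (by omega)
    omega
  · right
    subst g
    rcases e3 with e3 | ⟨e3, hqp, e4⟩
    · exfalso
      rcases e3' with e3' | ⟨e3', hqp, e4⟩
      · rw [e3, e3'] at hXY; exact lt_irrefl _ hXY
      · rw [e3, e4, show n - 1 = a by omega] at hXY
        omega
    · rcases e3' with e3' | ⟨e3', hqp, e4'⟩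
      · refine ⟨hqp, ?_, e4⟩
        rw [e3', show n - 1 = a by omega, show n - a = 1 by omega, pow_one]
      · exfalso
        rw [e4, e4'] at hXY; exact lt_irrefl _ hXY
  · left
    have g9 : a' + 2 ≤ a := by
      rcases ha with ⟨x, hx⟩
      rcases ha' with ⟨y, hy⟩
      omega
    have g10 := zpow_nine h g9
    have hup : Y < (q : ℤ) ^ a' := by
      rcases e3' with e3' | ⟨e3', -, e4⟩
      · rw [e3']; linarith
      · omega
    have g11 := zpow_nine' h (i := a') (by omega)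
    omega

/-- two special values of different signs -/
theorem Spec.pair_opp (h : Num p q n) {X Y : ℤ} (hX : Spec p q n X) (hY : Spec p q n Y) (h0 : 0 < X) (h0' : Y < 0) :
    2 * (-Y) ≤ X ∨ 2 * X ≤ -Y := by
  have h7 := h.h7
  have h3 := h.q3
  obtain ⟨a, ha, e1, e2, e3⟩ := hX.pos_cases h h0.le
  obtain ⟨b, hb, e1', e2', e3'⟩ := hY.neg_cases h h0'.le
  have s2 := zpow_pos h (n - a)
  have s2' := zpow_nine' h (i := n - b) (by omega)
  have s3 := zpow_pos h 2
  have s4 : (0 : ℤ) ≤ q := by positivity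
  rcases Nat.lt_or_ge b a with g | g
  · left
    have g1 := zpow_three h (i := b) (j := a) (by omega)
    have g2 := zpow_three h (i := n - a) (j := n - b) (by omega)
    rcases e3 with e3 | ⟨e3, -, e4⟩
    · rw [e3, e3']; linarith
    · rw [e4, e3', show n - 1 = a by omega]; linarith [zpow_pos h b]
  · right
    have hab : a < b := by
      rcases ha with ⟨x, hx⟩
      rcases hb with ⟨y, hy⟩
      omega
    have g1 := zpow_three h (i := a) (j := b) (by omega)
    have g2 := zpow_three h (i := n - b) (j := n - a) (by omega)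
    rcases e3 with e3 | ⟨e3, -, e4⟩
    · rw [e3, e3']; linarith [zpow_pos h a]
    · omega

end Cfsg.Agent.H437.Win
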