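import Cfsg.Agent.H437.Win.Spec

/-!
# The large numbers satisfying `Wd`
-/

set_option autoImplicit false

namespace Cfsg.Agent.H437.Win

variable {p q n : ℕ}

/-- the four cases, with multipliers -/
theorem wd_cases (h : Num p q n) {E : ℕ} (hE : 0 < E) (hW : Wd p q n E) :
    (Nat.gcd n (q + 1) * (q + 1)) * E ≤ Nat.gcd n (q + 1) * (q + 1) ^ 2 * q ^ (n - 3) ∨
    (∃ k : ℕ, 1 ≤ k ∧ k * ((Nat.gcd n (q + 1) * (q + 1)) * E) = q ^ n + 1) ∨
    (∃ a b k : ℕ, Even a ∧ Odd b ∧ 2 ≤ a ∧ 1 ≤ b ∧ a + b = n ∧ 1 ≤ k ∧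
      (k : ℤ) * ((Nat.gcd n (q + 1) * (q + 1) : ℕ) * (E : ℤ)) = (q : ℤ) ^ n + (q : ℤ) ^ a - (q : ℤ) ^ b - 1) ∨
    (∃ k : ℕ, 1 ≤ k ∧ k * ((Nat.gcd n (q + 1) * (q + 1)) * E) = (q + 1) * p * (q ^ (n - 2) + 1)) := by
  rcases hW with h1 | h1 | ⟨a, b, ha, hb, hab, h1⟩ | h1
  · left
    calc (Nat.gcd n (q + 1) * (q + 1)) * E ≤ (Nat.gcd n (q + 1) * (q + 1)) * (q ^ (n - 3) * (q + 1)) :=
        Nat.mul_le_mul_left _ h1
      _ = _ := by ring
  · right; left
    obtain ⟨k, hk⟩ := h1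
    refine ⟨k, ?_, by rw [hk]; ring⟩
    rcases Nat.eq_zero_or_pos k with h0 | h0
    · rw [h0, mul_zero] at hk
      omega
    · exact h0
  · right; right; left
    exact two_orbit h ha hb hab h1
  · right; right; right
    obtain ⟨k, hk⟩ := h1
    refine ⟨k, ?_, ?_⟩
    · rcases Nat.eq_zero_or_pos k with h0 | h0
      · rw [h0, mul_zero] at hk
        have := h.hp.pos
        have h2 : 0 < p * (q ^ (n - 2) + 1) := Nat.mul_pos this (by omega)
        omega
      · exact h0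
    · calc k * ((Nat.gcd n (q + 1) * (q + 1)) * E) = (q + 1) * (E * Nat.gcd n (q + 1) * k) := by ring
        _ = _ := by rw [← hk]; ring

theorem pow_split (h : Num p q n) : ∃ P : ℕ, q ^ (n - 3) = P ∧ q ^ (n - 2) = q * P ∧ q ^ (n - 1) = q ^ 2 * P ∧
    q ^ n = q ^ 3 * P ∧ q ^ 4 ≤ P := by
  have h7 := h.h7
  have h3 := h.q3
  refine ⟨q ^ (n - 3), rfl, ?_, ?_, ?_, Nat.pow_le_pow_right (by omega) (by omega)⟩
  · rw [← pow_succ']; congr 1; omega
  · rw [← pow_add]; congr 1; omega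
  · rw [← pow_add]; congr 1; omega

theorem pow_le_of_even (h : Num p q n) {a b : ℕ} (hb : 1 ≤ b) (hab : a + b = n) :
    (q : ℤ) ^ a ≤ (q : ℤ) ^ (n - 1) := by
  have h3 := h.q3
  exact pow_le_pow_right₀ (by omega) (by omega)

/-- **Upper bound.** -/
theorem wd_upper (h : Num p q n) {E : ℕ} (hE : 0 < E) (hW : Wd p q n E) :
    (Nat.gcd n (q + 1) * (q + 1)) * E + 1 ≤ q ^ n + 1 + q ^ (n - 1) + q ^ 2 + q := by
  obtain ⟨P, hP3, hP2, hP1, hP0, hP⟩ := pow_split h
  have h3 := h.q3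
  rcases wd_cases h hE hW with h1 | ⟨k, hk, h1⟩ | ⟨a, b, k, -, -, ha, hb, hab, hk, h1⟩ | ⟨k, hk, h1⟩
  · rw [hP3] at h1
    rw [hP0, hP1]
    rcases h.small h.q35 with ⟨-, h4⟩ | ⟨-, h4⟩
    · have h5 : 10 * (Nat.gcd n (q + 1) * (q + 1) ^ 2 * P) ≤ 7 * q ^ 3 * P := by
        calc _ = 10 * (Nat.gcd n (q + 1) * (q + 1) ^ 2) * P := by ring
          _ ≤ _ := Nat.mul_le_mul_right _ h4
      have h6 : 7 * q ^ 3 * P = 7 * (q ^ 3 * P) := by ring
      omega
    · have h5 : 100 * (Nat.gcd n (q + 1) * (q + 1) ^ 2 * P) ≤ 63 * q ^ 3 * P := by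
        calc _ = 100 * (Nat.gcd n (q + 1) * (q + 1) ^ 2) * P := by ring
          _ ≤ _ := Nat.mul_le_mul_right _ h4
      have h6 : 63 * q ^ 3 * P = 63 * (q ^ 3 * P) := by ring
      omega
  · have h4 : (Nat.gcd n (q + 1) * (q + 1)) * E ≤ k * ((Nat.gcd n (q + 1) * (q + 1)) * E) :=
      Nat.le_mul_of_pos_left _ hk
    omega
  · have h4 : (Nat.gcd n (q + 1) * (q + 1)) * E ≤ k * ((Nat.gcd n (q + 1) * (q + 1)) * E) :=
      Nat.le_mul_of_pos_left _ hk
    have h5 := pow_le_of_even h hb hab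
    have h6 : (1 : ℤ) ≤ (q : ℤ) ^ b := one_le_pow₀ (by omega)
    zify at h4 ⊢
    push_cast at h1 h4 ⊢
    nlinarith
  · have h4 : (Nat.gcd n (q + 1) * (q + 1)) * E ≤ k * ((Nat.gcd n (q + 1) * (q + 1)) * E) :=
      Nat.le_mul_of_pos_left _ hk
    have h5 : (q + 1) * p * (q ^ (n - 2) + 1) ≤ (q + 1) * q * (q ^ (n - 2) + 1) :=
      Nat.mul_le_mul_right _ (Nat.mul_le_mul_left _ h.hpq)
    rw [hP2] at h1 h5
    rw [hP0, hP1]
    have h6 : (q + 1) * q * (q * P + 1) = q ^ 3 * P + q ^ 2 * P + q ^ 2 + q := by ring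
    omega

/-- **The window.** -/
theorem spec1 (h : Num p q n) {E R : ℕ} (hE0 : 0 < E) (hW : Wd p q n E)
    (hR : R * (Nat.gcd n (q + 1) * (q + 1)) = q ^ n + 1)
    (hE : q = 3 ∧ 7 * R < 10 * E ∨ q ≠ 3 ∧ 63 * R < 100 * E) :
    E = R ∨ Spec p q n ((Nat.gcd n (q + 1) * (q + 1) : ℕ) * (E : ℤ) - ((q : ℤ) ^ n + 1)) := by
  obtain ⟨P, hP3, hP2, hP1, hP0, hP⟩ := pow_split h
  have h3 := h.q3
  have hwpos : 0 < Nat.gcd n (q + 1) * (q + 1) := Nat.mul_pos h.gcd_pos (by omega)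
  have hc := h.small h.q35
  have hcases := wd_cases h hE0 hW
  set w := Nat.gcd n (q + 1) * (q + 1) with hw
  -- the lower bound for `w E`
  have hlow : q = 3 ∧ 7 * (q ^ n + 1) < 10 * (w * E) ∨ 5 ≤ q ∧ 63 * (q ^ n + 1) < 100 * (w * E) := by
    rcases hE with ⟨h4, h5⟩ | ⟨h4, h5⟩
    · left
      refine ⟨h4, ?_⟩
      rw [← hR]
      calc 7 * (R * w) = w * (7 * R) := by ring
        _ < w * (10 * E) := Nat.mul_lt_mul_of_pos_left h5 hwpos
        _ = _ := by ring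
    · right
      refine ⟨by rcases h.q35 with h6 | h6 <;> omega, ?_⟩
      rw [← hR]
      calc 63 * (R * w) = w * (63 * R) := by ring
        _ < w * (100 * E) := Nat.mul_lt_mul_of_pos_left h5 hwpos
        _ = _ := by ring
  rcases hcases with h1 | ⟨k, hk, h1⟩ | ⟨a, b, k, hae, hbo, ha, hb, hab, hk, h1⟩ | ⟨k, hk, h1⟩
  · exfalso
    rw [hP3] at h1
    rw [hP0] at hlow
    rcases hc with ⟨h4, h5⟩ | ⟨h4, h5⟩
    · have h6 : 10 * (Nat.gcd n (q + 1) * (q + 1) ^ 2 * P) ≤ 7 * (q ^ 3 * P) := by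
        calc _ = 10 * (Nat.gcd n (q + 1) * (q + 1) ^ 2) * P := by ring
          _ ≤ 7 * q ^ 3 * P := Nat.mul_le_mul_right _ h5
          _ = _ := by ring
      omega
    · have h6 : 100 * (Nat.gcd n (q + 1) * (q + 1) ^ 2 * P) ≤ 63 * (q ^ 3 * P) := by
        calc _ = 100 * (Nat.gcd n (q + 1) * (q + 1) ^ 2) * P := by ring
          _ ≤ 63 * q ^ 3 * P := Nat.mul_le_mul_right _ h5
          _ = _ := by ring
      omega
  · left
    rcases Nat.lt_or_ge 1 k with hk2 | hk2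
    · exfalso
      have h4 : 2 * (w * E) ≤ k * (w * E) := Nat.mul_le_mul_right _ hk2
      omega
    · have h4 : k = 1 := by omega
      rw [h4, one_mul] at h1
      have h5 : w * E = w * R := by rw [h1, ← hR]; ring
      exact Nat.eq_of_mul_eq_mul_left hwpos h5
  · right
    rcases Nat.lt_or_ge 1 k with hk2 | hk2
    · exfalso
      have h4 : 2 * (w * E) ≤ k * (w * E) := Nat.mul_le_mul_right _ hk2
      have h5 := pow_le_of_even h hb hab
      have h6 : (1 : ℤ) ≤ (q : ℤ) ^ b := one_le_pow₀ (by omega)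
      have h7 : (2 : ℤ) * (w * E) ≤ (q : ℤ) ^ n + (q : ℤ) ^ (n - 1) := by
        have h8 : (2 : ℤ) * (w * E) ≤ k * (w * E) := by exact_mod_cast h4
        linarith
      have h8 : 2 * (w * E) ≤ q ^ n + q ^ (n - 1) := by exact_mod_cast h7
      rw [hP0, hP1] at h8
      rw [hP0] at hlow
      rcases hlow with ⟨h9, h10⟩ | ⟨h9, h10⟩
      · subst h9
        omega
      · have h11 : 5 * (q ^ 2 * P) ≤ q ^ 3 * P := by
          calc 5 * (q ^ 2 * P) ≤ q * (q ^ 2 * P) := Nat.mul_le_mul_right _ h9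
            _ = _ := by ring
        omega
    · have h4 : k = 1 := by omega
      left
      refine ⟨a, b, hae, hbo, ha, hb, hab, ?_⟩
      rw [h4, Nat.cast_one, one_mul] at h1
      rw [h1]
      ring
  · right; right
    have hq1 : (q + 1) * q * (q * P + 1) = q ^ 3 * P + q ^ 2 * P + q ^ 2 + q := by ring
    have hq4 : q ^ 2 + q ≤ P := by
      refine le_trans ?_ hP
      nlinarith [h3, Nat.zero_le q, pow_pos (show 0 < q by omega) 2, pow_pos (show 0 < q by omega) 3]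
    have hP0' : 81 ≤ P := le_trans (by nlinarith [Nat.pow_le_pow_left h3 4]) hP
    by_cases hpq : q = p
    · refine ⟨hpq, ?_⟩
      rcases Nat.lt_or_ge 1 k with hk2 | hk2
      · exfalso
        have h4 : 2 * (w * E) ≤ k * (w * E) := Nat.mul_le_mul_right _ hk2
        rw [h1, ← hpq, hP2, hq1] at h4
        rw [hP0] at hlow
        rcases hlow with ⟨h9, h10⟩ | ⟨h9, h10⟩
        · subst h9
          omega
        · have h11 : 5 * (q ^ 2 * P) ≤ q ^ 3 * P := by
            calc 5 * (q ^ 2 * P) ≤ q * (q ^ 2 * P) := Nat.mul_le_mul_right _ h9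
              _ = _ := by ring
          have h12 : 25 * P ≤ q ^ 2 * P := Nat.mul_le_mul_right _ (by nlinarith)
          omega
      · have h4 : k = 1 := by omega
        rw [h4, one_mul, ← hpq, hP2, hq1] at h1
        have h5 : (w : ℤ) * E = (q : ℤ) ^ 3 * P + (q : ℤ) ^ 2 * P + (q : ℤ) ^ 2 + q := by exact_mod_cast h1
        have h6 : (q : ℤ) ^ n = (q : ℤ) ^ 3 * P := by exact_mod_cast hP0
        have h7 : (q : ℤ) ^ (n - 1) = (q : ℤ) ^ 2 * P := by exact_mod_cast hP1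
        rw [h5, h6, h7]
        ring
    · exfalso
      have h4 := h.three_p hpq
      have h5 : w * E ≤ k * (w * E) := Nat.le_mul_of_pos_left _ hk
      rw [h1, hP2] at h5
      have h6 : 3 * ((q + 1) * p * (q * P + 1)) ≤ (q + 1) * q * (q * P + 1) := by
        calc _ = (q + 1) * (3 * p) * (q * P + 1) := by ring
          _ ≤ _ := Nat.mul_le_mul_right _ (Nat.mul_le_mul_left _ h4)
      rw [hq1] at h6
      have h11 : 3 * (q ^ 2 * P) ≤ q ^ 3 * P := by
        calc 3 * (q ^ 2 * P) ≤ q * (q ^ 2 * P) := Nat.mul_le_mul_right _ h3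
          _ = _ := by ring
      have h12 : 9 * P ≤ q ^ 2 * P := Nat.mul_le_mul_right _ (by nlinarith)
      rw [hP0] at hlow
      rcases hlow with ⟨h9, h10⟩ | ⟨h9, h10⟩ <;> omega

/-- **The lower window**, for `2 c (q + 1)² < q³`. -/
theorem spec2 (h : Num p q n) {E R : ℕ} (hE0 : 0 < E) (hW : Wd p q n E)
    (hR : R * (Nat.gcd n (q + 1) * (q + 1)) = q ^ n + 1)
    (hgen : 2 * (Nat.gcd n (q + 1) * (q + 1) ^ 2) < q ^ 3) (hE : R < 2 * E) :
    E = R ∨ Spec p q n ((Nat.gcd n (q + 1) * (q + 1) : ℕ) * (E : ℤ) - ((q : ℤ) ^ n + 1)) ∨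
      Spec p q n ((Nat.gcd n (q + 1) * (q + 1) : ℕ) * ((2 * E : ℕ) : ℤ) - ((q : ℤ) ^ n + 1)) := by
  obtain ⟨P, hP3, hP2, hP1, hP0, hP⟩ := pow_split h
  have h3 := h.q3
  have hwpos : 0 < Nat.gcd n (q + 1) * (q + 1) := Nat.mul_pos h.gcd_pos (by omega)
  have hcases := wd_cases h hE0 hW
  set w := Nat.gcd n (q + 1) * (q + 1) with hw
  have hlow : q ^ n + 1 < 2 * (w * E) := by
    rw [← hR]
    calc R * w = w * R := by ring
      _ < w * (2 * E) := Nat.mul_lt_mul_of_pos_left hE hwpos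
      _ = _ := by ring
  rcases hcases with h1 | ⟨k, hk, h1⟩ | ⟨a, b, k, hae, hbo, ha, hb, hab, hk, h1⟩ | ⟨k, hk, h1⟩
  · exfalso
    rw [hP3] at h1
    rw [hP0] at hlow
    have h6 : 2 * (Nat.gcd n (q + 1) * (q + 1) ^ 2 * P) ≤ q ^ 3 * P := by
      calc _ = 2 * (Nat.gcd n (q + 1) * (q + 1) ^ 2) * P := by ring
        _ ≤ q ^ 3 * P := Nat.mul_le_mul_right _ hgen.le
    omega
  · left
    rcases Nat.lt_or_ge 1 k with hk2 | hk2
    · exfalso
      have h4 : 2 * (w * E) ≤ k * (w * E) := Nat.mul_le_mul_right _ hk2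
      omega
    · have h4 : k = 1 := by omega
      rw [h4, one_mul] at h1
      have h5 : w * E = w * R := by rw [h1, ← hR]; ring
      exact Nat.eq_of_mul_eq_mul_left hwpos h5
  · right
    rcases Nat.lt_or_ge 2 k with hk2 | hk2
    · exfalso
      have h4 : 3 * (w * E) ≤ k * (w * E) := Nat.mul_le_mul_right _ hk2
      have h5 := pow_le_of_even h hb hab
      have h6 : (1 : ℤ) ≤ (q : ℤ) ^ b := one_le_pow₀ (by omega)
      have h7 : (3 : ℤ) * (w * E) ≤ (q : ℤ) ^ n + (q : ℤ) ^ (n - 1) := by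
        have h8 : (3 : ℤ) * (w * E) ≤ k * (w * E) := by exact_mod_cast h4
        linarith
      have h8 : 3 * (w * E) ≤ q ^ n + q ^ (n - 1) := by exact_mod_cast h7
      rw [hP0, hP1] at h8
      rw [hP0] at hlow
      have h11 : 3 * (q ^ 2 * P) ≤ q ^ 3 * P := by
        calc 3 * (q ^ 2 * P) ≤ q * (q ^ 2 * P) := Nat.mul_le_mul_right _ h3
          _ = _ := by ring
      omega
    · have h4 : k = 1 ∨ k = 2 := by omega
      rcases h4 with h4 | h4
      · left; left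
        refine ⟨a, b, hae, hbo, ha, hb, hab, ?_⟩
        rw [h4, Nat.cast_one, one_mul] at h1
        rw [h1]
        ring
      · right; left
        refine ⟨a, b, hae, hbo, ha, hb, hab, ?_⟩
        rw [h4] at h1
        push_cast at h1 ⊢
        linarith
  · right
    have hq1 : (q + 1) * q * (q * P + 1) = q ^ 3 * P + q ^ 2 * P + q ^ 2 + q := by ring
    have hq4 : q ^ 2 + q ≤ P := by
      refine le_trans ?_ hP
      nlinarith [h3, Nat.zero_le q, pow_pos (show 0 < q by omega) 2, pow_pos (show 0 < q by omega) 3]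
    have h11 : 3 * (q ^ 2 * P) ≤ q ^ 3 * P := by
      calc 3 * (q ^ 2 * P) ≤ q * (q ^ 2 * P) := Nat.mul_le_mul_right _ h3
        _ = _ := by ring
    have h12 : 9 * P ≤ q ^ 2 * P := Nat.mul_le_mul_right _ (by nlinarith)
    have h6' : (q : ℤ) ^ n = (q : ℤ) ^ 3 * P := by exact_mod_cast hP0
    have h7' : (q : ℤ) ^ (n - 1) = (q : ℤ) ^ 2 * P := by exact_mod_cast hP1
    by_cases hpq : q = p
    · rcases Nat.lt_or_ge 2 k with hk2 | hk2
      · exfalso
        have h4 : 3 * (w * E) ≤ k * (w * E) := Nat.mul_le_mul_right _ hk2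
        rw [h1, ← hpq, hP2, hq1] at h4
        rw [hP0] at hlow
        omega
      · have h4 : k = 1 ∨ k = 2 := by omega
        rw [← hpq, hP2, hq1] at h1
        rcases h4 with h4 | h4
        · left; right
          refine ⟨hpq, ?_⟩
          rw [h4, one_mul] at h1
          have h5 : (w : ℤ) * E = (q : ℤ) ^ 3 * P + (q : ℤ) ^ 2 * P + (q : ℤ) ^ 2 + q := by exact_mod_cast h1
          rw [h5, h6', h7']
          ring
        · right; right
          refine ⟨hpq, ?_⟩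
          rw [h4] at h1
          have h5 : (2 : ℤ) * (w * E) = (q : ℤ) ^ 3 * P + (q : ℤ) ^ 2 * P + (q : ℤ) ^ 2 + q := by exact_mod_cast h1
          rw [h6', h7']
          push_cast
          linear_combination h5
    · exfalso
      have h4 := h.three_p hpq
      have h5 : w * E ≤ k * (w * E) := Nat.le_mul_of_pos_left _ hk
      rw [h1, hP2] at h5
      have h6 : 3 * ((q + 1) * p * (q * P + 1)) ≤ (q + 1) * q * (q * P + 1) := by
        calc _ = (q + 1) * (3 * p) * (q * P + 1) := by ring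
          _ ≤ _ := Nat.mul_le_mul_right _ (Nat.mul_le_mul_left _ h4)
      rw [hq1] at h6
      rw [hP0] at hlow
      omega

end Cfsg.Agent.H437.Win
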